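import Cfsg.Agent.H522.Gen.CRowV
import Cfsg.Agent.H490.Gen.Adapt
import Cfsg.Agent.S0780
import Cfsg.Agent.Lib.ComponentSolvable

/-!
# S2187, unitary row: commuting preimages, matrix form

`crow_uni` : the hypothesis `CRow` of `H490.Gen.inner_psu`.
-/

set_option autoImplicit false
set_option linter.unusedSectionVars false

namespace Cfsg.Agent.H522.Gen

open Cfsg Subgroup Matrix
open Cfsg.Agent.H818.Gen Cfsg.Agent.H490.Gen Cfsg.Agent.H847.Bs Cfsg.Agent.H900.Gen Cfsg.Agent.H522.Gen.U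
open Cfsg.Agent.LieClassical.HermBasic Cfsg.Agent.LieClassical.HermSiegel Cfsg.Agent.LieClassical.SUBasic
open Cfsg.Agent.ClassicalGeometry.PSUAutBasic
open Cfsg.Agent.ClassicalGeometry.PSUAutCount (gm semiConj gm_mulVec_inv)
open Cfsg.Agent.Schreier.PSU (f₁)

variable {F : Type} [Field F] [Fintype F] {n q : ℕ}

/-- `SU_n` as a group of linear automorphisms -/
noncomputable def suV (n : ℕ) (F : Type) [Field F] (q : ℕ) : SU n F q →* ((Fin n → F) ≃ₗ[F] (Fin n → F)) :=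
  (toV n F).toMonoidHom.comp (Matrix.SpecialLinearGroup.toGL.comp (SU n F q).subtype)

theorem suV_apply (s : SU n F q) (v : Fin n → F) : suV n F q s v = act s v := rfl

theorem suV_mem (hF : Fintype.card F = q ^ 2) (s : SU n F q) : suV n F q s ∈ (hFrm n hF).Iso ⊓ slV F (Fin n → F) := by
  refine ⟨⟨fun x y => s.2 x y, fun _ => rfl⟩, ?_⟩
  have h1 : (Matrix.SpecialLinearGroup.toGL (s : Matrix.SpecialLinearGroup (Fin n) F)) ∈ Geo.specialLinear (Fin n) F := by
    rw [Geo.specialLinear, MonoidHom.mem_ker]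
    exact Units.ext (s : Matrix.SpecialLinearGroup (Fin n) F).2
  exact mem_sl.1 h1

theorem exists_suV (hF : Fintype.card F = q ^ 2) {g : (Fin n → F) ≃ₗ[F] (Fin n → F)}
    (hg : g ∈ (hFrm n hF).Iso ⊓ slV F (Fin n → F)) : ∃ s : SU n F q, suV n F q s = g := by
  obtain ⟨g₀, rfl⟩ := (toV n F).surjective g
  have h1 : g₀ ∈ Geo.specialLinear (Fin n) F := mem_sl.2 hg.2
  rw [Geo.specialLinear, MonoidHom.mem_ker] at h1
  have h2 : (g₀ : Matrix (Fin n) (Fin n) F).det = 1 := congrArg Units.val h1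
  refine ⟨⟨⟨(g₀ : Matrix (Fin n) (Fin n) F), h2⟩, fun x y => hg.1.1 x y⟩, ?_⟩
  show toV n F _ = toV n F g₀
  congr 1
  exact Units.ext rfl

/-- **The commuting case of the unitary row.** -/
theorem crow_uni {r p : ℕ} [CharP F r] (hC : Cond r p) (hF : Fintype.card F = q ^ 2) (hn : 3 ≤ n)
    (h32 : ¬ (n = 3 ∧ q = 2)) : CRow p (GU n F q) fun W => TI n F q W → W = ⊥ := by
  intro A hA hsc hpow hcomm hc hinv N hNS hHC
  have hr : Fact r.Prime := ⟨hC.r_prime⟩
  have hΦ := hFrm_isHerm n hF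
  set Φ := hFrm n hF with hΦd
  have hmap : (GU n F q).map (toV n F).toMonoidHom = Φ.Iso := map_GU hF
  -- scalars
  have hScal : Scal Φ = (GU n F q ⊓ Geo.scalars (Fin n) F).map (toV n F).toMonoidHom := by
    ext z
    constructor
    · rintro ⟨hz, c, hcz⟩
      obtain ⟨z₀, rfl⟩ := (toV n F).surjective z
      rw [← hmap] at hz
      obtain ⟨y, hy, hyz⟩ := hz
      have : y = z₀ := (toV n F).injective hyz
      subst this
      exact ⟨y, ⟨hy, mem_sc.2 ⟨c, hcz⟩⟩, rfl⟩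
    · rintro ⟨y, ⟨hy, hy'⟩, rfl⟩
      exact ⟨hmap ▸ ⟨y, hy, rfl⟩, mem_sc.1 hy'⟩
  have hchar : ((p : ℕ) : F) ≠ 0 := by
    rw [Ne, CharP.cast_eq_zero_iff F r]
    intro h
    exact hC.p_ne_r ((Nat.prime_dvd_prime_iff_eq hC.r_prime hC.p_prime).1 h).symm
  have hPa : Pa Φ p (A.map (toV n F).toMonoidHom) := by
    refine ⟨?_, ?_, ?_, ?_, hC.p_prime, hC.p_ne_two, hchar⟩
    · rw [← hmap]
      exact map_mono hA
    · rintro _ ⟨x, hx, rfl⟩ _ ⟨y, hy, rfl⟩
      rw [← map_mul, ← map_mul, hcomm x hx y hy]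
    · rintro _ ⟨x, hx, rfl⟩
      rw [← map_pow, hScal]
      exact ⟨x ^ p, ⟨(GU n F q).pow_mem (hA hx) p, hpow x hx⟩, rfl⟩
    · rw [hScal]
      exact map_mono hsc
  have hAn : Anis Φ (A.map (toV n F).toMonoidHom) := fun Y hY hTI =>
    hinv Y (fun f hf w hw => hY _ ⟨f, hf, rfl⟩ w hw) hTI.1
  have h2 : 2 ≤ Module.finrank F (Fin n → F) := by
    rw [Module.finrank_fin_fun]
    omega
  have h7 : q = 2 → 7 ≤ p := by
    intro hq
    refine hC.big.resolve_right fun h => h ?_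
    have h3 := FiniteField.card F r
    obtain ⟨m, -, hm⟩ := h3
    rw [hF, hq] at hm
    have h4 : r ∣ 2 ^ 2 := by
      rw [hm]
      exact dvd_pow_self r m.pos.ne'
    exact (Nat.prime_dvd_prime_iff_eq hC.r_prime Nat.prime_two).1 (hC.r_prime.dvd_of_dvd_pow h4)
  have hc' : p ^ 2 ≤ (Scal Φ).relIndex (A.map (toV n F).toMonoidHom) := by
    rw [hScal, relIndex_map_map_of_injective _ _ (toV n F).injective]
    exact hc
  have hcom := LieClassical.HermPerfect.commutator_SU_eq_top hF hn h32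
  have hqu : IsQuasisimple (SU n F q) := ⟨⟨hcom⟩, LieClassical.HermSimple.isSimpleGroup_of_perfect hF hn hcom⟩
  have hall := crowV (N := N.map (toV n F).toMonoidHom) hΦ hPa hAn h2 h7 hc' ?_ ?_ ?_ ?_
  · intro s hs
    obtain ⟨t, ht, hts⟩ := hall (show toV n F s ∈ Φ.Iso ⊓ slV F (Fin n → F) from ⟨hmap ▸ ⟨s, hs.1, rfl⟩, mem_sl.1 hs.2⟩)
    rwa [← (toV n F).injective hts]
  · -- the centralizer of `SU`
    intro g hg h
    rw [← hmap] at hg
    obtain ⟨g₀, hg₀, rfl⟩ := hg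
    have h3 : (⟨g₀, hg₀⟩ : GU n F q) ∈ (f₁ : GU n F q →* MulAut (PSU n F q)).ker := by
      rw [MonoidHom.mem_ker]
      ext x
      obtain ⟨s, rfl⟩ := pr_surjective x
      show pr n F q (semiConj ⟨g₀, hg₀⟩ 1 s) = pr n F q s
      congr 1
      apply ext_act
      intro v
      rw [Schreier.PSU.act_semiConj_one']
      have h4 := congrArg (fun T : (Fin n → F) ≃ₗ[F] (Fin n → F) => T (gm (⟨g₀, hg₀⟩ : GU n F q)⁻¹ *ᵥ v))
        (h _ (suV_mem hF s))
      have h5 : gm (⟨g₀, hg₀⟩ : GU n F q) *ᵥ (act s (gm (⟨g₀, hg₀⟩ : GU n F q)⁻¹ *ᵥ v)) =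
        act s (gm (⟨g₀, hg₀⟩ : GU n F q) *ᵥ (gm (⟨g₀, hg₀⟩ : GU n F q)⁻¹ *ᵥ v)) := h4
      rw [h5, gm_mulVec_inv]
    rw [hScal, ← ker_f₁ hF hn]
    exact ⟨_, ⟨_, h3, rfl⟩, rfl⟩
  · -- generation by transvections
    intro M hM s hs
    obtain ⟨s, rfl⟩ := exists_suV hF hs
    have h3 := S0780.result hF n hn h32
    have h4 : (⊤ : Subgroup (SU n F q)) ≤ M.comap (suV n F q) := by
      rw [← h3, closure_le]
      rintro t ⟨v, c, -, ht⟩
      refine hM v _ ⟨(suV_mem hF t).1, fun x hx => ?_⟩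
      have hx' : ∑ i, x i * (v i) ^ q = 0 := hx
      rw [suV_apply, act_def]
      show ((t : Matrix.SpecialLinearGroup (Fin n) F) : Matrix (Fin n) (Fin n) F) *ᵥ x = x
      rw [ht, unitaryTransvection, add_mulVec, one_mulVec, smul_mulVec, vecMulVec_mulVec]
      have h5 : (fun j => v j ^ q) ⬝ᵥ x = 0 := by
        rw [dotProduct, ← hx']
        exact Finset.sum_congr rfl fun i _ => mul_comm _ _
      rw [h5]
      simp
    exact h4 (mem_top s)
  · -- quasisimplicity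
    rintro M hM hn' ⟨m, hm, hms⟩ s hs
    obtain ⟨s, rfl⟩ := exists_suV hF hs
    have hnorm : (M.comap (suV n F q)).Normal := ⟨fun x hx g => by
      rw [mem_comap, map_mul, map_mul, map_inv]
      exact hn' _ (suV_mem hF g) _ hx⟩
    rcases Lib.ComponentSolvable.quasisimple_normal_cases hqu hnorm with h | h
    · have h3 : s ∈ M.comap (suV n F q) := h ▸ mem_top s
      exact h3
    · exfalso
      obtain ⟨t, rfl⟩ := exists_suV hF (hM hm)
      obtain ⟨c, -, -, hcv⟩ := exists_scalar_of_mem_center hF hn (h (show t ∈ M.comap (suV n F q) from hm))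
      exact hms ⟨(suV_mem hF t).1, c, fun v => hcv v⟩
  · -- centralizers
    intro K hK hS hi s hs hf
    have h3 := hyps_of hHC
    rw [hmap] at h3
    exact h3 K hK (fun g hg hcg => hS ⟨hg, hcg⟩) hi s hs.1 hs.2 hf

end Cfsg.Agent.H522.Gen
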