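import Cfsg.Agent.H522.Gen.UMain
import Cfsg.Agent.H818.Gen.Defs

/-!
# S2187, unitary row: from the linear form to honest centralizers

`crowV` : `A` commutative preimage of an elementary abelian group of rank at least two, without invariant isotropic subspaces;
`N` contains the centralizers in `SU` of the hyperplanes of `A` modulo scalars.  Then `SU ≤ N`.
-/

set_option autoImplicit false
set_option linter.unusedSectionVars false

namespace Cfsg.Agent.H522.Gen.U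

open Cfsg Subgroup Cfsg.Agent.H847.Bs Cfsg.Agent.H900.Gen Cfsg.Agent.H818.Gen

universe u v

section stab

variable {G : Type u} [Group G]

/-- the stabilizer of a subgroup in the automorphism group -/
def St (M : Subgroup G) : Subgroup (MulAut G) where
  carrier := {φ | ∀ m, φ m ∈ M ↔ m ∈ M}
  one_mem' := fun _ => Iff.rfl
  mul_mem' := fun {a b} ha hb m => (ha (b m)).trans (hb m)
  inv_mem' := fun {a} ha m => by
    have h := ha (a⁻¹ m)
    rw [MulAut.apply_inv_self] at h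
    exact h.symm

theorem conj_mem_St {M : Subgroup G} {g : G} (hg : g ∈ M) : MulAut.conj g ∈ St M := by
  intro m
  rw [MulAut.conj_apply]
  constructor
  · intro h
    have h1 := M.mul_mem (M.mul_mem (M.inv_mem hg) h) hg
    have h2 : g⁻¹ * (g * m * g⁻¹) * g = m := by group
    rwa [h2] at h1
  · intro h
    exact M.mul_mem (M.mul_mem hg h) (M.inv_mem hg)

theorem normalizer_le_St (p : ℕ) {E : Subgroup (MulAut G)} :
    normalizer (E : Set (MulAut G)) ≤ St (Gam p E) := by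
  intro φ hφ
  have key : ∀ ψ ∈ normalizer (E : Set (MulAut G)), ∀ g ∈ Gam p E, ψ g ∈ Gam p E := by
    intro ψ hψ g hg
    refine conj_Gam (fun e he => (mem_normalizer_iff.1 hψ e).1 he) (fun e he => ?_) hg
    have h1 := (mem_normalizer_iff.1 (inv_mem hψ) e).1 he
    rwa [inv_inv] at h1
  intro m
  refine ⟨fun h => ?_, key φ hφ m⟩
  have h1 := key φ⁻¹ (inv_mem hφ) _ h
  rwa [MulAut.inv_apply_self] at h1

/-- if `E` is generated by `M` and an element of order `p` then `CF M ≤ Gam p E` -/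
theorem CF_le_of_gen [Finite G] {p : ℕ} [hp : Fact p.Prime] {E M : Subgroup (MulAut G)} (hE : IsElementaryAbelian p E)
    (hM : M ≤ E) (hc : p ≤ Nat.card E) {c : MulAut G} (hcE : c ∈ E) (hgen : ∀ x ∈ E, ∃ m ∈ M, ∃ k : ℤ, x = m * c ^ k) :
    CF M ≤ Gam p E := by
  -- the index of `M` is at most `p`
  have h1 : M.relIndex E ≤ p := by
    let f : ↥(zpowers c) → ↥E ⧸ M.subgroupOf E := fun x => QuotientGroup.mk ⟨x, (zpowers_le.2 hcE) x.2⟩
    have hf : Function.Surjective f := by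
      intro y
      obtain ⟨x, rfl⟩ := QuotientGroup.mk_surjective y
      obtain ⟨m, hm, k, hk⟩ := hgen x x.2
      refine ⟨⟨c ^ k, ⟨k, rfl⟩⟩, ?_⟩
      rw [QuotientGroup.eq, mem_subgroupOf]
      show (c ^ k)⁻¹ * (x : MulAut G) ∈ M
      have h2 : (c ^ k)⁻¹ * (x : MulAut G) = m := by
        have h3 := hE.1.1.1 ⟨m, hM hm⟩ ⟨c ^ k, E.zpow_mem hcE k⟩
        have h4 : m * c ^ k = c ^ k * m := congrArg (fun z : ↥E => (z : MulAut G)) h3
        rw [hk, h4, inv_mul_cancel_left]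
      rw [h2]
      exact hm
    have h2 := Nat.card_le_card_of_surjective f hf
    have h3 : Nat.card ↥(zpowers c) ≤ p := by
      rw [Nat.card_zpowers]
      exact Nat.le_of_dvd hp.out.pos (orderOf_dvd_of_pow_eq_one (hE.2 c hcE))
    exact h2.trans h3
  have h2 : M.relIndex E ∣ Nat.card E := Subgroup.index_dvd_card _
  obtain ⟨n, hn⟩ := (elab_isPGroup hE).exists_card_eq
  rw [hn] at h2
  obtain ⟨k, -, hk⟩ := (Nat.dvd_prime_pow hp.out).1 h2
  have hk1 : k ≤ 1 := by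
    by_contra h
    push Not at h
    have h3 : p ^ 2 ≤ p ^ k := Nat.pow_le_pow_right hp.out.pos h
    have h4 := hp.out.one_lt
    rw [hk] at h1
    nlinarith
  rcases Nat.le_one_iff_eq_zero_or_eq_one.1 hk1 with h0 | h0
  · rw [h0, pow_zero] at hk
    have h3 : E ≤ M := relIndex_eq_one.1 hk
    exact (CF_anti h3).trans (CF_le_Gam_of_card hE hc)
  · rw [h0, pow_one] at hk
    exact CF_le_Gam' hM hk

end stab

variable {F : Type u} {V : Type v} [Field F] [AddCommGroup V] [Module F V]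

/-- the elements of determinant one in the isometry group -/
def sI (Φ : Frm F V) : Subgroup ↥Φ.Iso := (slV F V).subgroupOf Φ.Iso

instance sI_normal (Φ : Frm F V) : (sI Φ).Normal := ⟨fun s hs g => by
  exact (Cfsg.Agent.H557.Bs.det_conj' (g : V ≃ₗ[F] V) (s : V ≃ₗ[F] V)).trans hs⟩

/-- the action of the isometries on the isometries of determinant one -/
noncomputable def rI (Φ : Frm F V) : ↥Φ.Iso →* MulAut ↥(sI Φ) := MulAut.conjNormal

theorem rI_apply (Φ : Frm F V) (g : ↥Φ.Iso) (s : ↥(sI Φ)) :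
    (((rI Φ g s : ↥(sI Φ)) : ↥Φ.Iso) : V ≃ₗ[F] V) = g * s * (g : V ≃ₗ[F] V)⁻¹ := rfl

/-- the group of automorphisms induced by `B` -/
noncomputable def im (Φ : Frm F V) (B : Subgroup (V ≃ₗ[F] V)) : Subgroup (MulAut ↥(sI Φ)) := (B.subgroupOf Φ.Iso).map (rI Φ)

theorem im_mono {Φ : Frm F V} {B B' : Subgroup (V ≃ₗ[F] V)} (h : B ≤ B') : im Φ B ≤ im Φ B' :=
  map_mono (comap_mono h)

theorem rI_eq_one {Φ : Frm F V} {z : ↥Φ.Iso} (hz : (z : V ≃ₗ[F] V) ∈ Scal Φ) : rI Φ z = 1 := by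
  ext1 s
  apply Subtype.ext
  apply Subtype.ext
  rw [rI_apply]
  have h1 := Scal.comm hz (s : ↥Φ.Iso)
  rw [← h1, mul_inv_cancel_right]
  rfl

variable [Finite F] [FiniteDimensional F V] {Φ : Frm F V} {A : Subgroup (V ≃ₗ[F] V)} {p r : ℕ}

theorem elab_im (hA : Pa Φ p A) : IsElementaryAbelian p (im Φ A) := by
  refine ⟨⟨⟨?_⟩⟩, ?_⟩
  · rintro ⟨_, a, ha, rfl⟩ ⟨_, b, hb, rfl⟩
    apply Subtype.ext
    show rI Φ a * rI Φ b = rI Φ b * rI Φ a
    rw [← map_mul, ← map_mul]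
    congr 1
    exact Subtype.ext (hA.comm a ha b hb)
  · rintro _ ⟨a, ha, rfl⟩
    rw [← map_pow]
    exact rI_eq_one (hA.pow a ha)

/-- **The unitary row, commuting preimages, with honest centralizers.** -/
theorem crowV (hΦ : IsHerm r Φ) (hA : Pa Φ p A) (hAn : Anis Φ A) (h2 : 2 ≤ Module.finrank F V) (h7 : r = 2 → 7 ≤ p)
    (hc : p ^ 2 ≤ (Scal Φ).relIndex A)
    (hcen : ∀ g ∈ Φ.Iso, (∀ s ∈ Φ.Iso ⊓ slV F V, g * s = s * g) → g ∈ Scal Φ)
    (hgen : ∀ M : Subgroup (V ≃ₗ[F] V), (∀ v g, Rv Φ v g → g ∈ M) → Φ.Iso ⊓ slV F V ≤ M)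
    (hqs : ∀ M : Subgroup (V ≃ₗ[F] V), M ≤ Φ.Iso ⊓ slV F V → (∀ g ∈ Φ.Iso ⊓ slV F V, ∀ m ∈ M, g * m * g⁻¹ ∈ M) →
      (∃ m ∈ M, m ∉ Scal Φ) → Φ.Iso ⊓ slV F V ≤ M) {N : Subgroup (V ≃ₗ[F] V)}
    (hN : ∀ K ≤ A, Scal Φ ≤ K → K.relIndex A = p → ∀ s ∈ Φ.Iso ⊓ slV F V, (∀ f ∈ K, s * f = f * s) → s ∈ N) :
    Φ.Iso ⊓ slV F V ≤ N := by
  have hp : Fact p.Prime := ⟨hA.prime⟩
  have hp1 := hA.prime.one_lt
  have hVf : Finite V := Module.finite_of_finite F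
  have hGf : Finite (V ≃ₗ[F] V) := Finite.of_injective (fun g : V ≃ₗ[F] V => (g : V → V)) DFunLike.coe_injective
  have hfin : Finite (MulAut ↥(sI Φ)) := inferInstance
  have hne : A ≠ Scal Φ := by
    rintro h
    rw [h, relIndex_self] at hc
    nlinarith
  obtain ⟨A', hAA', hA', hmain⟩ := u_lin hΦ hA hAn hne h2 h7
  have hE := elab_im hA
  have hE' := elab_im hA'
  -- the kernel
  have hker : (rI Φ).ker = (Scal Φ).subgroupOf Φ.Iso := by
    ext z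
    rw [MonoidHom.mem_ker, mem_subgroupOf]
    refine ⟨fun h => hcen z z.2 fun s hs => ?_, rI_eq_one⟩
    have h1 := congrArg (fun φ : MulAut ↥(sI Φ) => (((φ ⟨⟨s, hs.1⟩, hs.2⟩ : ↥(sI Φ)) : ↥Φ.Iso) : V ≃ₗ[F] V)) h
    have h3 : (z : V ≃ₗ[F] V) * s * (z : V ≃ₗ[F] V)⁻¹ = s := h1
    rw [← mul_inv_eq_iff_eq_mul]
    exact h3
  have hcE : p ^ 2 ≤ Nat.card (im Φ A) := by
    have h1 := relIndex_map_map (rI Φ) (⊥ : Subgroup ↥Φ.Iso) (A.subgroupOf Φ.Iso)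
    have h3 : (rI Φ).ker ≤ A.subgroupOf Φ.Iso := by
      rw [hker]
      exact comap_mono hA.scal
    rw [Subgroup.map_bot, relIndex_bot_left, bot_sup_eq, sup_eq_left.2 h3, hker, relIndex_subgroupOf hA.le] at h1
    rw [im, h1]
    exact hc
  have hcp : p ≤ Nat.card (im Φ A) := le_trans (by nlinarith) hcE
  have hcE' : p ^ 2 ≤ Nat.card (im Φ A') := hcE.trans (card_le_of_le (im_mono hAA'))
  have hcp' : p ≤ Nat.card (im Φ A') := le_trans (by nlinarith) hcE'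
  -- from `Gam` to `N`
  have hGN : ∀ s ∈ Gam p (im Φ A), ((s : ↥Φ.Iso) : V ≃ₗ[F] V) ∈ N := by
    have h1 : Gam p (im Φ A) ≤ (N.comap Φ.Iso.subtype).comap (sI Φ).subtype := by
      refine Gam_le fun K hK hi => ?_
      intro s hs
      set K₀ : Subgroup ↥Φ.Iso := K.comap (rI Φ) ⊓ A.subgroupOf Φ.Iso with hK₀
      have hA0 : (A.subgroupOf Φ.Iso).map Φ.Iso.subtype = A := by
        rw [subgroupOf_map_subtype, inf_eq_left.2 hA.le]
      refine hN (K₀.map Φ.Iso.subtype) ?_ ?_ ?_ s ⟨(s : ↥Φ.Iso).2, s.2⟩ ?_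
      · conv_rhs => rw [← hA0]
        exact map_mono inf_le_right
      · intro z hz
        have h6 : rI Φ ⟨z, hz.1⟩ ∈ K := by
          rw [rI_eq_one hz]
          exact K.one_mem
        exact ⟨⟨z, hz.1⟩, ⟨h6, hA.scal hz⟩, rfl⟩
      · conv_lhs => rw [← hA0]
        rw [relIndex_map_map_of_injective _ _ Φ.Iso.subtype_injective, hK₀, inf_relIndex_right, relIndex_comap]
        exact hi
      · rintro _ ⟨f, ⟨hf, -⟩, rfl⟩
        have h3 := hs _ hf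
        have h4 := congrArg (fun t : ↥(sI Φ) => ((t : ↥Φ.Iso) : V ≃ₗ[F] V)) h3
        have h5 : (f : V ≃ₗ[F] V) * (s : ↥Φ.Iso) * (f : V ≃ₗ[F] V)⁻¹ = (s : ↥Φ.Iso) := h4
        exact (mul_inv_eq_iff_eq_mul.1 h5).symm
    exact fun s hs => h1 hs
  have hGG : Gam p (im Φ A') ≤ Gam p (im Φ A) := Gam_mono (im_mono hAA') hE' hcp
  -- the stabilizer
  set N' : Subgroup (V ≃ₗ[F] V) := ((St (Gam p (im Φ A'))).comap (rI Φ)).map Φ.Iso.subtype with hN'
  have hNP : NP Φ A' N' := by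
    refine ⟨map_subtype_le _, fun g hg h => ⟨⟨g, hg⟩, ?_, rfl⟩, ?_⟩
    · rw [SetLike.mem_coe, mem_comap]
      apply normalizer_le_St
      refine mem_normalizer_fintype fun e he => ?_
      obtain ⟨a, ha, rfl⟩ := he
      refine ⟨⟨g, hg⟩ * a * ⟨g, hg⟩⁻¹, h a ha, ?_⟩
      rw [map_mul, map_mul, map_inv]
    · intro c hc' H hH hSH hgen' g hg hgH
      refine ⟨⟨g, hg.1⟩, ?_, rfl⟩
      have h3 : (⟨⟨g, hg.1⟩, hg.2⟩ : ↥(sI Φ)) ∈ Gam p (im Φ A') := by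
        refine CF_le_of_gen hE' (im_mono hH) hcp' (c := rI Φ ⟨c, hA'.le hc'⟩) ⟨⟨c, hA'.le hc'⟩, hc', rfl⟩ ?_ ?_
        · rintro _ ⟨a, ha, rfl⟩
          have hcm : ∀ e ∈ H, Commute e c := fun e he => hA'.comm e (hH he) c hc'
          obtain ⟨e, he, k, hk⟩ := (hgen'.trans (sup_le (le_mulz hcm) (zpowers_le.2 (mem_mulz hcm)))) ha
          refine ⟨rI Φ ⟨e, hA'.le (hH he)⟩, ⟨_, he, rfl⟩, k, ?_⟩
          rw [← map_zpow, ← map_mul]
          congr 1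
          exact Subtype.ext hk
        · rintro _ ⟨f, hf, rfl⟩
          apply Subtype.ext
          apply Subtype.ext
          rw [rI_apply, mul_inv_eq_iff_eq_mul]
          exact (hgH f hf).symm
      have h4 := conj_mem_St h3
      have h5 : rI Φ ⟨g, hg.1⟩ = MulAut.conj (⟨⟨g, hg.1⟩, hg.2⟩ : ↥(sI Φ)) := by
        ext s
        rfl
      rw [SetLike.mem_coe, mem_comap, h5]
      exact h4
  have hSN : Φ.Iso ⊓ slV F V ≤ N' := hgen N' (hmain N' hNP)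
  -- a nonscalar element
  have hns : ∃ a ∈ A', a ∈ slV F V ∧ a ∉ Scal Φ := by
    by_contra hcon
    push Not at hcon
    let D : Subgroup Fˣ := A'.map LinearEquiv.det
    obtain ⟨⟨_, a₀, ha₀, rfl⟩, hd₀⟩ := IsCyclic.exists_generator (α := D)
    have h3 : im Φ A' ≤ zpowers (rI Φ ⟨a₀, hA'.le ha₀⟩) := by
      rintro _ ⟨a, ha, rfl⟩
      obtain ⟨k, hk⟩ := mem_zpowers_iff.1 (hd₀ ⟨_, a, ha, rfl⟩)
      have hk' : LinearEquiv.det a₀ ^ k = LinearEquiv.det (a : V ≃ₗ[F] V) := congrArg (fun z : D => (z : Fˣ)) hk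
      have h4 : (a : V ≃ₗ[F] V) * (a₀ ^ k)⁻¹ ∈ slV F V := by
        have h5 : LinearEquiv.det ((a : V ≃ₗ[F] V) * (a₀ ^ k)⁻¹) = 1 := by
          rw [map_mul, map_inv, map_zpow, hk', mul_inv_cancel]
        have h6 := congrArg Units.val h5
        rw [LinearEquiv.coe_det] at h6
        exact h6
      have h5 := hcon _ (A'.mul_mem ha (A'.inv_mem (A'.zpow_mem ha₀ k))) h4
      refine mem_zpowers_iff.2 ⟨k, ?_⟩
      have h6 : rI Φ (a * (⟨a₀, hA'.le ha₀⟩ ^ k)⁻¹) = 1 := rI_eq_one h5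
      rw [map_mul, map_inv, map_zpow, mul_inv_eq_one] at h6
      exact h6.symm
    have h4 := card_le_of_le h3
    rw [Nat.card_zpowers] at h4
    have h5 : orderOf (rI Φ ⟨a₀, hA'.le ha₀⟩) ≤ p :=
      Nat.le_of_dvd hp.out.pos (orderOf_dvd_of_pow_eq_one (hE'.2 _ ⟨_, ha₀, rfl⟩))
    nlinarith
  obtain ⟨a, haA, ha1, ha2⟩ := hns
  have haI := hA'.le haA
  have haG : (⟨⟨a, haI⟩, ha1⟩ : ↥(sI Φ)) ∈ Gam p (im Φ A') := by
    refine CF_le_Gam_of_card hE' hcp' ?_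
    rintro _ ⟨f, hf, rfl⟩
    apply Subtype.ext
    apply Subtype.ext
    rw [rI_apply, mul_inv_eq_iff_eq_mul]
    exact hA'.comm f hf a haA
  -- conclusion
  have hfinal := hqs (((Gam p (im Φ A')).map (sI Φ).subtype).map Φ.Iso.subtype) ?_ ?_ ⟨a, ⟨_, ⟨_, haG, rfl⟩, rfl⟩, ha2⟩
  · intro s hs
    obtain ⟨_, ⟨t, ht, rfl⟩, rfl⟩ := hfinal hs
    exact hGN t (hGG ht)
  · rintro _ ⟨_, ⟨t, -, rfl⟩, rfl⟩
    exact ⟨(t : ↥Φ.Iso).2, t.2⟩
  · rintro g hg _ ⟨_, ⟨t, ht, rfl⟩, rfl⟩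
    obtain ⟨g', hg', hgg⟩ := hSN hg
    have h3 : g' = ⟨g, hg.1⟩ := Subtype.ext hgg
    subst h3
    exact ⟨_, ⟨rI Φ ⟨g, hg.1⟩ t, (hg' t).2 ht, rfl⟩, rfl⟩

end Cfsg.Agent.H522.Gen.U
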