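import Cfsg.Agent.H522.Gen.Emb
import Cfsg.Agent.H193.StrP.LieFill
import Cfsg.Agent.H193.StrP.Main
import Cfsg.Agent.H496.SpTwF.Row
import Cfsg.Agent.H975.FieldInput
import Cfsg.Agent.H284.SepOrd
import Cfsg.Agent.OrdDiv.Table
import Cfsg.Agent.OddHalf.Known

/-!
# S2187: the input `NoSPLie` (from the rows of S2120)
-/

set_option autoImplicit false

namespace Cfsg.Agent.H522.Gen

open Cfsg Subgroup Cfsg.Agent.H818.StrP

universe u

/-- in odd characteristic the exceptions of characteristic 2 do not occur -/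
theorem false_of_card {K : Type u} [Group K] {r : ℕ} (hr : r.Prime) (hr2 : r ≠ 2) (h : IsLieTypeChar r K)
    (h2 : IsLieTypeChar 2 K) (hc : Nat.card K ≠ 60 ∧ Nat.card K ≠ 168 ∧ Nat.card K ≠ 25920) : False := by
  rcases H284.SepOrd.sep OrdDiv.table hr Nat.prime_two hr2 h h2 with h | h | h
  · exact hc.1 h
  · exact hc.2.1 h
  · exact hc.2.2 h

theorem charP_two_of_card {F : Type} [Field F] [Fintype F] {k : ℕ} (h : Fintype.card F = 2 ^ k) : CharP F 2 := by
  obtain ⟨q, hq⟩ := CharP.exists F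
  have hqp : Fact q.Prime := ⟨CharP.char_is_prime F q⟩
  obtain ⟨n, -, h1⟩ := FiniteField.card F q
  rw [h] at h1
  have h2 : q ∣ 2 ^ k := by rw [h1]; exact dvd_pow_self q n.pos.ne'
  have h3 := (Nat.prime_dvd_prime_iff_eq hqp.out Nat.prime_two).1 (hqp.out.dvd_of_dvd_pow h2)
  exact h3 ▸ hq

theorem not_l34 {K : Type u} [Group K] {r : ℕ} (hr : r.Prime) (hr2 : r ≠ 2) (h : IsLieTypeChar r K) :
    ¬ H193.StrP.IsL34 K := by
  rintro ⟨F, _, _, hF, ⟨e⟩⟩
  have h2 : CharP F 2 := charP_two_of_card (k := 2) hF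
  have hl : IsPSLChar 2 K := ⟨F, inferInstance, inferInstance, h2, 3, by norm_num, by norm_num, ⟨e⟩⟩
  refine false_of_card hr hr2 h (Or.inl hl) ?_
  have h5 := H436.psl_eq (F := F) (n := 3) (by norm_num)
  rw [hF] at h5
  have h6 : OrdDiv.fPSL.den 3 4 = 9 := by decide +kernel
  have h7 : OrdDiv.fPSL.num 3 4 = 181440 := by decide +kernel
  rw [h6, h7, ← Nat.card_congr e.toEquiv] at h5
  omega

theorem not_l28 {K : Type u} [Group K] [Finite K] {r : ℕ} (hr : r.Prime) (hr2 : r ≠ 2) (h : IsLieTypeChar r K) :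
    ¬ H193.StrP.IsL28 K := by
  rintro ⟨F, _, _, hF, ⟨e⟩⟩
  have h2 : CharP F 2 := charP_two_of_card (k := 3) hF
  have hl : IsPSLChar 2 K := ⟨F, inferInstance, inferInstance, h2, 2, le_rfl, fun _ => by rw [hF]; norm_num, ⟨e⟩⟩
  refine false_of_card hr hr2 h (Or.inl hl) ?_
  have h5 := H436.psl_eq (F := F) (n := 2) le_rfl
  rw [hF] at h5
  have h6 : OrdDiv.fPSL.den 2 8 = 7 := by decide +kernel
  have h7 : OrdDiv.fPSL.num 2 8 = 3528 := by decide +kernel
  rw [h6, h7, ← Nat.card_congr e.toEquiv] at h5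
  omega

theorem not_sz32 {K : Type u} [Group K] [Finite K] {r : ℕ} (hr : r.Prime) (hr2 : r ≠ 2) (h : IsLieTypeChar r K) :
    ¬ H193.StrP.IsSz32 K := by
  rintro ⟨F, _, _, hF, ⟨e⟩⟩
  refine false_of_card hr hr2 h ?_ ?_
  · refine Or.inr (Or.inr (Or.inr (Or.inr (Or.inr (Or.inr (Or.inr (Or.inr (Or.inl ⟨rfl, ?_⟩))))))))
    exact ⟨F, inferInstance, inferInstance, 2, by norm_num, by rw [hF]; norm_num, ⟨e⟩⟩
  · have h1 : Nat.card K = 32537600 := by
      rw [Nat.card_congr e.toEquiv]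
      have h2 := OrdDiv.table.{0}.sz F 2 (by norm_num) (by rw [hF]; norm_num)
      have h3 : (2 : ℕ) ^ (2 + 1) = 8 := by norm_num
      rw [h3] at h2
      rw [h2]
      norm_num
    rw [h1]
    norm_num

/-- **The cross characteristic part of S2120.** -/
theorem noSPLie : NoSPLie.{u} := by
  intro r p hr hp hp2 hpr h7 X _ _ K hKn hs hna hc hlie H hH
  by_contra hcX
  have hL : H193.StrP.LieRow.{u} :=
    H193.StrP.lieRow (H193.StrP.lieOpen_of fun h _ _ hp2 => H496.SpTwF.RowFin.row_2F4 h hp2)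
  have hF : H193.StrP.FieldRow.{u} := H975.FieldInput.fieldRow
  have hkn := OddHalf.Known.known_of_isLie hlie
  have hd : p ∣ Nat.card ↥K := by
    by_contra hd
    exact hcX fun P => H193.StrP.cyclic_of_not_dvd hs hna hkn hc hd P
  rcases hL r p hp2 hpr ↥K hs hna hlie with (h1 | h1) | ⟨h1, h2⟩
  · obtain ⟨f, hf, hfo⟩ := H193.StrP.exists_outer hp2 h1 hcX
    rcases hF r p hp2 hpr X K hKn hs hna hc hlie hd h1 f hf hfo with h2 | ⟨h2, h3⟩ | ⟨h2, h3⟩
    · exact h2 H hH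
    · subst h2
      have hr2 : r ≠ 2 := h7.resolve_left (by norm_num)
      exact not_l28 hr.out hr2 hlie h3
    · subst h2
      have hr2 : r ≠ 2 := h7.resolve_left (by norm_num)
      exact not_sz32 hr.out hr2 hlie h3
  · exact (H193.StrP.noSP_up hd h1) H hH
  · subst h1
    have hr2 : r ≠ 2 := h7.resolve_left (by norm_num)
    exact not_l34 hr.out hr2 hlie h2

end Cfsg.Agent.H522.Gen
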