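import Cfsg.Agent.H522.Gen.UNorm

/-!
# S2187, unitary row: the preimage of an elementary abelian subgroup of `PGU`

* `Scal Φ` : the scalar isometries;
* `Pa Φ p A` : `A` is a commutative group of isometries, containing the scalars, with `a ^ p` scalar for all `a ∈ A`;
* `NP Φ A N` : `N` contains the normalizer of `A` and the centralizers in `SU` of the hyperplanes of `A` modulo scalars;
* `exists_odec'` : `V` is the orthogonal sum of nondegenerate irreducible `A`-modules, if there are no invariant isotropic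
  subspaces.
-/

set_option autoImplicit false
set_option linter.unusedSectionVars false

namespace Cfsg.Agent.H522.Gen.U

open Cfsg.Agent.H847.Bs Cfsg.Agent.H900.Gen Polynomial

universe u v

variable {F : Type u} {V : Type v} [Field F] [AddCommGroup V] [Module F V]

/-- the scalar isometries -/
def Scal (Φ : Frm F V) : Subgroup (V ≃ₗ[F] V) where
  carrier := {g | g ∈ Φ.Iso ∧ ∃ c : F, ∀ v, g v = c • v}
  mul_mem' := by
    rintro g h ⟨hg, c, hc⟩ ⟨hh, d, hd⟩
    exact ⟨Φ.Iso.mul_mem hg hh, c * d, fun v => by rw [LinearEquiv.mul_apply, hd, hc, smul_smul]⟩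
  one_mem' := ⟨Φ.Iso.one_mem, 1, fun v => (one_smul _ _).symm⟩
  inv_mem' := by
    rintro g ⟨hg, c, hc⟩
    refine ⟨Φ.Iso.inv_mem hg, c⁻¹, fun v => ?_⟩
    have h1 : g (g⁻¹ v) = v := g.apply_symm_apply v
    rw [hc] at h1
    by_cases h0 : c = 0
    · rw [h0, zero_smul] at h1
      rw [← h1, map_zero, smul_zero]
    · calc g⁻¹ v = c⁻¹ • (c • g⁻¹ v) := by rw [smul_smul, inv_mul_cancel₀ h0, one_smul]
        _ = c⁻¹ • v := by rw [h1]

theorem Scal.comm {Φ : Frm F V} {z : V ≃ₗ[F] V} (hz : z ∈ Scal Φ) (g : V ≃ₗ[F] V) : g * z = z * g := by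
  obtain ⟨-, c, hc⟩ := hz
  ext v
  rw [LinearEquiv.mul_apply, LinearEquiv.mul_apply, hc, hc, map_smul]

instance scal_normal (Φ : Frm F V) : (Scal Φ).Normal := ⟨fun z hz g => by
  rw [Scal.comm hz, mul_inv_cancel_right]
  exact hz⟩

/-- the preimage of an elementary abelian group -/
structure Pa (Φ : Frm F V) (p : ℕ) (A : Subgroup (V ≃ₗ[F] V)) : Prop where
  le : A ≤ Φ.Iso
  comm : ∀ a ∈ A, ∀ b ∈ A, a * b = b * a
  pow : ∀ a ∈ A, a ^ p ∈ Scal Φ
  scal : Scal Φ ≤ A
  prime : p.Prime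
  odd : p ≠ 2
  char : (p : F) ≠ 0

/-- `N` contains the normalizer of `A` and the centralizers in `SU` of the hyperplanes of `A` -/
structure NP (Φ : Frm F V) (A N : Subgroup (V ≃ₗ[F] V)) : Prop where
  le : N ≤ Φ.Iso
  n1 : ∀ g ∈ Φ.Iso, (∀ a ∈ A, g * a * g⁻¹ ∈ A) → g ∈ N
  n2 : ∀ c ∈ A, ∀ H ≤ A, Scal Φ ≤ H → A ≤ H ⊔ Subgroup.zpowers c → ∀ g ∈ Φ.Iso ⊓ slV F V, (∀ f ∈ H, g * f = f * g) → g ∈ N

/-- nondegenerate irreducible submodules -/
structure Gi (Φ : Frm F V) (A : Subgroup (V ≃ₗ[F] V)) (X : Submodule F V) : Prop where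
  inv : InvA A X
  ne : X ≠ ⊥
  min : ∀ Y ≤ X, InvA A Y → Y = ⊥ ∨ Y = X
  nd : Φ.NdOn X

variable [Finite F] [FiniteDimensional F V] {Φ : Frm F V} {A : Subgroup (V ≃ₗ[F] V)} {p r : ℕ}

/-- **Decomposition.** -/
theorem exists_odec' (hΦ : IsHerm r Φ) (hA : A ≤ Φ.Iso) (hAn : Anis Φ A) :
    ∃ S : Set (Submodule F V), ODec Φ ⊥ (fun X : S => (X : Submodule F V)) ∧ ∀ X ∈ S, Gi Φ A X := by
  have hfin : Finite V := Module.finite_of_finite F
  have : Finite (Submodule F V) := Finite.of_injective (fun X : Submodule F V => (X : Set V)) SetLike.coe_injective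
  obtain ⟨S, hS, hmax⟩ := Set.Finite.exists_maximal (Set.toFinite {S : Set (Submodule F V) |
    (∀ X ∈ S, Gi Φ A X) ∧ ∀ X ∈ S, ∀ Y ∈ S, X ≠ Y → Φ.Orth X Y}) ⟨∅, by simp⟩
  obtain ⟨hS1, hS2⟩ := hS
  let W : Submodule F V := ⨆ X : S, (X : Submodule F V)
  have hle : ∀ X ∈ S, X ≤ W := fun X hX => le_iSup (fun X : S => (X : Submodule F V)) ⟨X, hX⟩
  -- `W` is nondegenerate
  have hWn : Φ.NdOn W := by
    intro x hx h
    have hS' : Finite S := inferInstance
    have := Fintype.ofFinite S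
    have h2 : x ∈ ⨆ i ∈ (Finset.univ : Finset S), (i : Submodule F V) := by simpa [W] using hx
    obtain ⟨μ, hμ⟩ := (Submodule.mem_iSup_finset_iff_exists_sum _ _).1 h2
    have h3 : ∀ i : S, (μ i : V) = 0 := by
      intro i
      refine (hS1 i i.2).nd _ (μ i).2 fun y hy => ?_
      have h4 := h y (hle i i.2 hy)
      rw [← hμ] at h4
      have h5 : ∀ (s : Finset S), Φ.B (∑ j ∈ s, (μ j : V)) y = ∑ j ∈ s, Φ.B (μ j) y := by
        classical
        intro s
        induction s using Finset.induction_on with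
        | empty => rw [Finset.sum_empty, Finset.sum_empty, Cfsg.Agent.H900.Gen.B_zero_left]
        | insert j s hj ih => rw [Finset.sum_insert hj, Finset.sum_insert hj, Φ.add_left, ih]
      rw [h5, Finset.sum_eq_single i] at h4
      · exact h4
      · intro j _ hji
        exact hS2 j j.2 i i.2 (fun h => hji (Subtype.ext h)) _ (μ j).2 y hy
      · intro h
        exact absurd (Finset.mem_univ i) h
    rw [← hμ]
    exact Finset.sum_eq_zero fun i _ => h3 i
  have hWi : InvA A W := by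
    intro a ha x hx
    have h1 : W ≤ W.comap (a : V →ₗ[F] V) := by
      refine iSup_le fun X => ?_
      intro y hy
      exact hle X X.2 ((hS1 X X.2).inv a ha y hy)
    exact h1 hx
  have hUi := perp_inv hA hWi
  have hW : W = ⊤ := by
    by_contra hW
    have hU0 : Cfsg.Agent.H900.Gen.perp Φ W ≠ ⊥ := by
      intro h
      apply hW
      have h1 := (isCompl_perp Φ hWn).sup_eq_top
      rwa [h, sup_bot_eq] at h1
    obtain ⟨X, hXU, hXi, hX0, hmin⟩ := exists_minimal hUi hU0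
    have hXn : Φ.NdOn X := by
      have hR : InvA A (X ⊓ Cfsg.Agent.H900.Gen.perp Φ X) := by
        intro c hc x hx
        exact ⟨hXi c hc x hx.1, perp_inv hA hXi c hc x hx.2⟩
      rcases hmin _ inf_le_left hR with h | h
      · intro x hx h1
        have h2 : x ∈ X ⊓ Cfsg.Agent.H900.Gen.perp Φ X := ⟨hx, h1⟩
        rw [h, Submodule.mem_bot] at h2
        exact h2
      · exfalso
        apply hX0
        apply hAn X hXi
        refine ⟨fun x hx y hy => ?_, fun x _ => hΦ.q x⟩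
        rw [← h] at hx
        exact hx.2 y hy
    have h1 : X ∉ S := by
      intro h
      apply hX0
      rw [eq_bot_iff]
      intro x hx
      exact hWn x (hle X h hx) (hXU hx)
    have h2 : insert X S ⊆ S := by
      refine hmax ⟨?_, ?_⟩ (Set.subset_insert X S)
      · intro Y hY
        rcases Set.mem_insert_iff.1 hY with rfl | hY
        · exact ⟨hXi, hX0, hmin, hXn⟩
        · exact hS1 Y hY
      · intro Y hY Z hZ hYZ
        rcases Set.mem_insert_iff.1 hY with e | hY'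
        · rcases Set.mem_insert_iff.1 hZ with e' | hZ'
          · exact absurd (e.trans e'.symm) hYZ
          · intro x hx z hz
            rw [e] at hx
            exact hXU hx z (hle Z hZ' hz)
        · rcases Set.mem_insert_iff.1 hZ with e' | hZ'
          · intro x hx z hz
            rw [e'] at hz
            exact (B_comm_zero Φ).1 (hXU hz x (hle Y hY' hx))
          · exact hS2 Y hY' Z hZ' hYZ
    exact h1 (h2 (Set.mem_insert X S))
  refine ⟨S, ⟨?_, ?_, fun X => (hS1 X X.2).nd, ?_, ?_⟩, hS1⟩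
  · rw [bot_sup_eq]
    exact hW
  · intro x hx _
    exact (Submodule.mem_bot F).1 hx
  · intro X u hu x _
    rw [(Submodule.mem_bot F).1 hu, Cfsg.Agent.H900.Gen.B_zero_left]
  · intro X Y h
    exact hS2 X X.2 Y Y.2 fun h' => h (Subtype.ext h')

/-- two automorphisms which agree on the summands are equal -/
theorem ext_of_dec' {S : Set (Submodule F V)} (hd : ODec Φ ⊥ (fun X : S => (X : Submodule F V))) {g h : V ≃ₗ[F] V}
    (hX : ∀ X ∈ S, ∀ x ∈ X, g x = h x) : g = h :=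
  ext_of_dec hd (fun u hu => by rw [(Submodule.mem_bot F).1 hu, map_zero, map_zero]) hX

/-- a scalar isometry has norm one -/
theorem norm_of_scalar (hΦ : IsHerm r Φ) {g : V ≃ₗ[F] V} (hg : g ∈ Φ.Iso) {X : Submodule F V} (hXn : Φ.NdOn X) (hX0 : X ≠ ⊥)
    {c : F} (hc : ∀ x ∈ X, g x = c • x) : c ^ (r + 1) = 1 := by
  obtain ⟨x, hx, hx0⟩ := (Submodule.ne_bot_iff _).1 hX0
  have h1 : ∃ y ∈ X, Φ.B x y ≠ 0 := by
    by_contra hcon
    push Not at hcon
    exact hx0 (hXn x hx hcon)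
  obtain ⟨y, hy, hxy⟩ := h1
  have h2 := hg.1 x y
  rw [hc x hx, hc y hy, Φ.smul_left, Φ.smul_right, hΦ.s, ← mul_assoc] at h2
  have h3 : c * c ^ r = 1 := mul_right_cancel₀ hxy (by rw [h2, one_mul])
  rw [pow_succ, mul_comm]
  exact h3

/-- the scalar isometry -/
noncomputable def sc (F V : Type*) [Field F] [AddCommGroup V] [Module F V] (c : F) (h : c ≠ 0) : V ≃ₗ[F] V :=
  LinearEquiv.smulOfNeZero F V c h

theorem sc_apply {c : F} (h : c ≠ 0) (v : V) : sc F V c h v = c • v := rfl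

theorem ne_zero_of_norm {c : F} (h : c ^ (r + 1) = 1) : c ≠ 0 := by
  rintro rfl
  rw [zero_pow (by omega)] at h
  exact zero_ne_one h

theorem sc_mem (hΦ : IsHerm r Φ) {c : F} (h : c ^ (r + 1) = 1) : sc F V c (ne_zero_of_norm h) ∈ Scal Φ := by
  refine ⟨⟨fun x y => ?_, fun x => ?_⟩, c, fun v => rfl⟩
  · rw [sc_apply, sc_apply, Φ.smul_left, Φ.smul_right, hΦ.s, ← mul_assoc]
    have : c * c ^ r = 1 := by rw [mul_comm, ← pow_succ]; exact h
    rw [this, one_mul]
  · rw [hΦ.q, hΦ.q]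

/-- the isometry acting as the scalar `c` on `X` and trivially on `X^⟂` -/
theorem exists_scalar_on (hΦ : IsHerm r Φ) {X : Submodule F V} (hXn : Φ.NdOn X) {c : F} (h : c ^ (r + 1) = 1) :
    ∃ g ∈ Φ.Iso, Loc Φ X g ∧ ∀ x ∈ X, g x = c • x := by
  have h1 : sc F X c (ne_zero_of_norm h) ∈ (Φ.on X).Iso := by
    have hX : IsHerm r (Φ.on X) :=
      ⟨fun x hx => Subtype.ext (hXn x x.2 fun y hy => hx ⟨y, hy⟩), hΦ.card, hΦ.s, fun x => hΦ.q x, fun x y => hΦ.symm x y⟩
    exact (sc_mem hX h).1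
  exact ⟨_, ext_mem_iso hXn h1, ext_loc hXn _, fun x hx => ext_apply_mem hXn _ ⟨x, hx⟩⟩

/-- a primitive `p`-th root of unity of norm one -/
theorem exists_zeta (hF : Nat.card F = r ^ 2) (hp : p.Prime) (hpr : p ∣ r + 1) :
    ∃ ζ : F, IsPrimitiveRoot ζ p ∧ ζ ^ (r + 1) = 1 := by
  have hr2 := Cfsg.Agent.H557.Bs.two_le_of_card hF
  obtain ⟨g, hg⟩ := IsCyclic.exists_generator (α := Fˣ)
  have ho : orderOf g = (r - 1) * (r + 1) := by
    rw [orderOf_eq_card_of_forall_mem_zpowers hg]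
    exact Cfsg.Agent.H557.Bs.card_units hF
  obtain ⟨m, hm⟩ := hpr
  have hm0 : 0 < m := Nat.pos_of_ne_zero (by rintro rfl; omega)
  have hz : orderOf (g ^ ((r - 1) * m)) = p := by
    have h1 : (r - 1) * m * p = orderOf g := by rw [ho, hm]; ring
    rw [orderOf_pow_of_dvd (Nat.mul_pos (by omega) hm0).ne' (Dvd.intro _ h1), ← h1]
    exact Nat.mul_div_cancel_left _ (Nat.mul_pos (by omega) hm0)
  refine ⟨((g ^ ((r - 1) * m) : Fˣ) : F), ?_, ?_⟩
  · have h1 := IsPrimitiveRoot.orderOf (g ^ ((r - 1) * m))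
    rw [hz] at h1
    exact h1.map_of_injective (f := Units.coeHom F) Units.val_injective
  · have h1 : (g ^ ((r - 1) * m)) ^ (r + 1) = 1 := by
      rw [hm, pow_mul _ p m]
      have h2 : (g ^ ((r - 1) * m)) ^ p = 1 := by rw [← hz, pow_orderOf_eq_one]
      rw [h2, one_pow]
    rw [← Units.val_pow_eq_pow_val, h1, Units.val_one]

/-- an eigenvector of an element of order `p` -/
theorem exists_eigen {ζ : F} (hζ : IsPrimitiveRoot ζ p) (hp : p.Prime) (hpF : (p : F) ≠ 0) {b : V ≃ₗ[F] V} (hb : b ^ p = 1)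
    {X : Submodule F V} (hbX : Inv b X) (hX0 : X ≠ ⊥) : ∃ i : ℕ, ∃ x ∈ X, x ≠ 0 ∧ b x = ζ ^ i • x := by
  obtain ⟨x, hx, hx0⟩ := (Submodule.ne_bot_iff _).1 hX0
  have hζ0 : ζ ≠ 0 := hζ.ne_zero hp.ne_zero
  let w : ℕ → V := fun i => ∑ j ∈ Finset.range p, (ζ⁻¹ ^ (i * j)) • (b ^ j) x
  have hwX : ∀ i, w i ∈ X := fun i => X.sum_mem fun j _ => X.smul_mem _ (by
    have h1 : ∀ k : ℕ, (b ^ k) x ∈ X := by
      intro k
      induction k with
      | zero => exact hx
      | succ k ih =>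
        rw [pow_succ', LinearEquiv.mul_apply]
        exact hbX _ ih
    exact h1 j)
  have hbw : ∀ i, b (w i) = ζ ^ i • w i := by
    intro i
    have h1 : ∀ j, b ((ζ⁻¹ ^ (i * j)) • (b ^ j) x) = ζ ^ i • ((ζ⁻¹ ^ (i * (j + 1))) • (b ^ (j + 1)) x) := by
      intro j
      rw [map_smul, smul_smul, pow_succ' b, LinearEquiv.mul_apply]
      congr 1
      rw [mul_add, mul_one, pow_add, ← mul_assoc, mul_comm (ζ ^ i), mul_assoc, ← mul_pow, mul_inv_cancel₀ hζ0, one_pow,
        mul_one]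
    show b (∑ j ∈ Finset.range p, (ζ⁻¹ ^ (i * j)) • (b ^ j) x) = _
    rw [map_sum, Finset.sum_congr rfl fun j _ => h1 j, ← Finset.smul_sum]
    congr 1
    show ∑ j ∈ Finset.range p, (ζ⁻¹ ^ (i * (j + 1))) • (b ^ (j + 1)) x = ∑ j ∈ Finset.range p, (ζ⁻¹ ^ (i * j)) • (b ^ j) x
    have h2 := Finset.sum_range_succ' (fun j => (ζ⁻¹ ^ (i * j)) • (b ^ j) x) p
    have h3 := Finset.sum_range_succ (fun j => (ζ⁻¹ ^ (i * j)) • (b ^ j) x) p
    rw [h3] at h2
    have h4 : (ζ⁻¹ ^ (i * p)) • (b ^ p) x = (ζ⁻¹ ^ (i * 0)) • (b ^ 0) x := by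
      rw [hb, mul_zero, pow_zero, pow_zero, mul_comm i p, pow_mul, inv_pow, hζ.pow_eq_one, inv_one, one_pow]
    rw [h4] at h2
    exact (add_right_cancel h2).symm
  have hsum : ∑ i ∈ Finset.range p, w i = (p : F) • x := by
    show ∑ i ∈ Finset.range p, ∑ j ∈ Finset.range p, (ζ⁻¹ ^ (i * j)) • (b ^ j) x = _
    rw [Finset.sum_comm]
    have h1 : ∀ j ∈ Finset.range p, ∑ i ∈ Finset.range p, (ζ⁻¹ ^ (i * j)) • (b ^ j) x = if j = 0 then (p : F) • x else 0 := by
      intro j hj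
      rw [← Finset.sum_smul]
      split_ifs with h0
      · subst h0
        simp
      · have h2 : ∑ i ∈ Finset.range p, ζ⁻¹ ^ (i * j) = ∑ i ∈ Finset.range p, (ζ⁻¹ ^ j) ^ i :=
          Finset.sum_congr rfl fun i _ => by rw [← pow_mul, mul_comm]
        have h3 : IsPrimitiveRoot (ζ⁻¹ ^ j) p := by
          refine hζ.inv.pow_of_coprime j ?_
          rw [Nat.coprime_comm, Nat.Prime.coprime_iff_not_dvd hp]
          exact fun h => h0 (Nat.eq_zero_of_dvd_of_lt h (Finset.mem_range.1 hj))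
        rw [h2, h3.geom_sum_eq_zero hp.one_lt, zero_smul]
    rw [Finset.sum_congr rfl h1, Finset.sum_ite_eq' (Finset.range p) 0, if_pos (Finset.mem_range.2 hp.pos)]
  by_contra hcon
  push Not at hcon
  have h1 : ∀ i, w i = 0 := by
    intro i
    by_contra h
    exact hcon i (w i) (hwX i) h (hbw i)
  rw [Finset.sum_eq_zero fun i _ => h1 i] at hsum
  rcases smul_eq_zero.1 hsum.symm with h | h
  · exact hpF h
  · exact hx0 h

end Cfsg.Agent.H522.Gen.U
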