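import Cfsg.Agent.H522.Gen.USplitMain

/-!
# S2187, unitary row: classes modulo `p`-th powers in the group of norm one elements
-/

set_option autoImplicit false
set_option linter.unusedSectionVars false

namespace Cfsg.Agent.H522.Gen.U

open Cfsg.Agent.H847.Bs Cfsg.Agent.H900.Gen Polynomial

universe u v

section Cls

variable {F : Type u} [Field F] [Finite F] {p r : ℕ}

/-- the group of norm one elements modulo `p`-th powers is generated by any nontrivial element -/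
theorem class_lemma (hF : Nat.card F = r ^ 2) (hp : p.Prime) {l m : F} (hl : l ^ (r + 1) = 1) (hm : m ^ (r + 1) = 1)
    (hnl : ∀ z : F, z ^ (r + 1) = 1 → z ^ p ≠ l) : ∃ j : ℕ, ∃ z : F, z ^ (r + 1) = 1 ∧ m = z ^ p * l ^ j := by
  have hr2 := Cfsg.Agent.H557.Bs.two_le_of_card hF
  obtain ⟨g, hg⟩ := IsCyclic.exists_generator (α := Fˣ)
  have ho : orderOf g = (r - 1) * (r + 1) := by
    rw [orderOf_eq_card_of_forall_mem_zpowers hg]
    exact Cfsg.Agent.H557.Bs.card_units hF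
  have key : ∀ a : F, a ^ (r + 1) = 1 → ∃ t : ℕ, a = ((g ^ (t * (r - 1)) : Fˣ) : F) := by
    intro a ha
    have ha0 := ne_zero_of_norm ha
    obtain ⟨k, hk⟩ := (mem_powers_iff_mem_zpowers (x := g)).2 (hg (Units.mk0 a ha0))
    have hk' : g ^ k = Units.mk0 a ha0 := hk
    have h1 : g ^ (k * (r + 1)) = 1 := by
      rw [pow_mul, hk']
      exact Units.ext (by rw [Units.val_pow_eq_pow_val, Units.val_mk0, ha]; rfl)
    have h2 := orderOf_dvd_of_pow_eq_one h1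
    rw [ho] at h2
    obtain ⟨m, rfl⟩ := Nat.dvd_of_mul_dvd_mul_right (by omega) h2
    exact ⟨m, by rw [mul_comm m, hk', Units.val_mk0]⟩
  have hnorm : ∀ k : ℤ, ((g ^ (k * ((r - 1 : ℕ) : ℤ)) : Fˣ) : F) ^ (r + 1) = 1 := by
    intro k
    have h1 : (g ^ (k * ((r - 1 : ℕ) : ℤ))) ^ (r + 1) = 1 := by
      rw [← zpow_natCast, ← zpow_mul]
      have h2 : k * ((r - 1 : ℕ) : ℤ) * ((r + 1 : ℕ) : ℤ) = ((orderOf g : ℕ) : ℤ) * k := by
        rw [ho]
        push_cast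
        ring
      rw [h2, zpow_mul, zpow_natCast, pow_orderOf_eq_one, one_zpow]
    rw [← Units.val_pow_eq_pow_val, h1, Units.val_one]
  obtain ⟨s, hs⟩ := key l hl
  obtain ⟨t, ht⟩ := key m hm
  have hps : ¬ p ∣ s := by
    rintro ⟨k, rfl⟩
    refine hnl _ (hnorm k) ?_
    rw [hs, ← Units.val_pow_eq_pow_val]
    congr 1
    rw [← zpow_natCast, ← zpow_natCast, ← zpow_mul]
    congr 1
    push_cast
    ring
  have := Fact.mk hp
  have hs0 : (s : ZMod p) ≠ 0 := by rwa [Ne, ZMod.natCast_eq_zero_iff]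
  let j : ℕ := ((t : ZMod p) / s).val
  have hj : (j : ZMod p) = (t : ZMod p) / s := by simp [j]
  have h1 : (((t : ℤ) - j * s : ℤ) : ZMod p) = 0 := by
    push_cast
    rw [hj, div_mul_cancel₀ _ hs0, sub_self]
  rw [ZMod.intCast_zmod_eq_zero_iff_dvd] at h1
  obtain ⟨k, hk⟩ := h1
  refine ⟨j, _, hnorm k, ?_⟩
  rw [hs, ht, ← Units.val_pow_eq_pow_val, ← Units.val_pow_eq_pow_val, ← Units.val_mul]
  congr 1
  rw [← zpow_natCast, ← zpow_natCast, ← zpow_natCast, ← zpow_natCast, ← zpow_mul, ← zpow_mul, ← zpow_add]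
  congr 1
  have h2 : (t : ℤ) = p * k + j * s := by linarith
  push_cast
  rw [h2]
  ring

/-- an element of norm one which is not the `p`-th power of an element of norm one is not a `p`-th power -/
theorem not_pow (hF : Nat.card F = r ^ 2) (hp : p.Prime) (hp2 : p ≠ 2) (hpr : p ∣ r + 1) {l : F} (hl : l ^ (r + 1) = 1)
    (hnl : ∀ z : F, z ^ (r + 1) = 1 → z ^ p ≠ l) (b : F) : b ^ p ≠ l := by
  intro hb
  refine hnl b ?_ hb
  have hr2 := Cfsg.Agent.H557.Bs.two_le_of_card hF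
  have hb0 : b ≠ 0 := by
    rintro rfl
    rw [zero_pow hp.ne_zero] at hb
    exact ne_zero_of_norm hl hb.symm
  have h1 : (Units.mk0 b hb0 ^ (r + 1)) ^ p = 1 := by
    apply Units.ext
    rw [Units.val_pow_eq_pow_val, Units.val_pow_eq_pow_val, Units.val_mk0, ← pow_mul, mul_comm, pow_mul, hb, hl]
    rfl
  have h2 : (Units.mk0 b hb0 ^ (r + 1)) ^ (r - 1) = 1 := by
    rw [← pow_mul, mul_comm, ← Cfsg.Agent.H557.Bs.card_units hF, pow_card_eq_one']
  have h3 := orderOf_dvd_of_pow_eq_one h1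
  have h4 := orderOf_dvd_of_pow_eq_one h2
  rcases (Nat.dvd_prime hp).1 h3 with h5 | h5
  · have h6 := orderOf_eq_one_iff.1 h5
    have h7 := congrArg Units.val h6
    rwa [Units.val_pow_eq_pow_val, Units.val_mk0] at h7
  · exfalso
    rw [h5] at h4
    have h6 := (Nat.dvd_sub hpr h4)
    have h7 : r + 1 - (r - 1) = 2 := by omega
    rw [h7] at h6
    exact hp2 ((Nat.prime_dvd_prime_iff_eq hp Nat.prime_two).1 h6)

theorem irr_poly (hF : Nat.card F = r ^ 2) (hp : p.Prime) (hp2 : p ≠ 2) (hpr : p ∣ r + 1) {l : F} (hl : l ^ (r + 1) = 1)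
    (hnl : ∀ z : F, z ^ (r + 1) = 1 → z ^ p ≠ l) : Irreducible (Polynomial.X ^ p - C l : F[X]) :=
  X_pow_sub_C_irreducible_of_prime hp fun b => not_pow hF hp hp2 hpr hl hnl b

end Cls

variable {F : Type u} {V : Type v} [Field F] [AddCommGroup V] [Module F V]
variable [Finite F] [FiniteDimensional F V] {Φ : Frm F V} {A : Subgroup (V ≃ₗ[F] V)} {p r : ℕ}
variable {S : Set (Submodule F V)}

theorem norm_of_scal (hΦ : IsHerm r Φ) (hV : Nontrivial V) {g : V ≃ₗ[F] V} (hg : g ∈ Φ.Iso) {c : F}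
    (hc : ∀ v, g v = c • v) : c ^ (r + 1) = 1 := by
  refine norm_of_scalar hΦ hg (X := ⊤) (fun x _ h => hΦ.nd x fun y => h y trivial) ?_ fun x _ => hc x
  intro h
  obtain ⟨v, hv⟩ := exists_ne (0 : V)
  have h1 : v ∈ (⊤ : Submodule F V) := trivial
  rw [h, Submodule.mem_bot] at h1
  exact hv h1

theorem sc_pow {c : F} (h : c ≠ 0) (n : ℕ) (v : V) : (sc F V c h ^ n) v = c ^ n • v := by
  induction n generalizing v with
  | zero => rw [pow_zero, pow_zero, one_smul]; rfl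
  | succ n ih => rw [pow_succ, LinearEquiv.mul_apply, sc_apply, map_smul, ih, smul_smul, pow_succ, mul_comm]

/-- the elements of `enlS` which are scalar on `X ⊔ Y` -/
def hXY (Φ : Frm F V) (p : ℕ) (S : Set (Submodule F V)) (hd : ODec Φ ⊥ (fun X : S => (X : Submodule F V)))
    (W : Submodule F V) : Subgroup (V ≃ₗ[F] V) where
  carrier := {h | h ∈ enlS Φ p S hd ∧ ∃ c : F, ∀ w ∈ W, h w = c • w}
  mul_mem' := by
    rintro a b ⟨ha, c, hc⟩ ⟨hb, d, hd⟩
    exact ⟨Subgroup.mul_mem _ ha hb, c * d, fun w hw => by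
      rw [LinearEquiv.mul_apply, hd w hw, map_smul, hc w hw, smul_smul, mul_comm]⟩
  one_mem' := ⟨Subgroup.one_mem _, 1, fun w _ => (one_smul _ _).symm⟩
  inv_mem' := by
    rintro a ⟨ha, c, hc⟩
    refine ⟨Subgroup.inv_mem _ ha, ?_⟩
    by_cases h0 : c = 0
    · refine ⟨1, fun x hx => ?_⟩
      have h1 := hc x hx
      rw [h0, zero_smul, LinearEquiv.map_eq_zero_iff] at h1
      rw [h1, map_zero, smul_zero]
    · refine ⟨c⁻¹, fun w hw => ?_⟩
      have h1 : a (c⁻¹ • w) = w := by rw [map_smul, hc w hw, smul_smul, inv_mul_cancel₀ h0, one_smul]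
      have h2 : a⁻¹ (a (c⁻¹ • w)) = c⁻¹ • w := a.symm_apply_apply _
      rwa [h1] at h2

theorem gen_pair (hΦ : IsHerm r Φ) (hp : p.Prime) {ζ : F} (hζ : IsPrimitiveRoot ζ p)
    (hd : ODec Φ ⊥ (fun X : S => (X : Submodule F V))) {X Y : Submodule F V} (hX : X ∈ S) (hY : Y ∈ S)
    (hX0 : X ≠ ⊥) (hY0 : Y ≠ ⊥) {k : V ≃ₗ[F] V} (hkA : k ∈ enlS Φ p S hd) (hkX : ∀ x ∈ X, k x = ζ • x)
    (hkY : ∀ y ∈ Y, k y = y) : enlS Φ p S hd ≤ hXY Φ p S hd (X ⊔ Y) ⊔ Subgroup.zpowers k := by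
  intro a ha
  have hXn := hd.nd ⟨X, hX⟩
  obtain ⟨α, hα⟩ := ha.2.1 X hX
  obtain ⟨β, hβ⟩ := ha.2.1 Y hY
  obtain ⟨-, γ, hγ⟩ := ha.2.2
  have key : ∀ (Z : Submodule F V) (c : F), (∀ z ∈ Z, a z = c • z) → ∀ n : ℕ, ∀ z ∈ Z, (a ^ n) z = c ^ n • z := by
    intro Z c hc n
    induction n with
    | zero => intro z _; rw [pow_zero, pow_zero, one_smul]; rfl
    | succ n ih =>
      intro z hz
      rw [pow_succ, LinearEquiv.mul_apply, hc z hz, map_smul, ih z hz, smul_smul, pow_succ, mul_comm]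
  have hα0 := ne_zero_of_norm (norm_of_scalar hΦ ha.1 hXn hX0 hα)
  obtain ⟨x, hx, hx0⟩ := (Submodule.ne_bot_iff _).1 hX0
  obtain ⟨y, hy, hy0⟩ := (Submodule.ne_bot_iff _).1 hY0
  have e1 : α ^ p = γ := by
    have h1 := key X α hα p x hx
    rw [hγ] at h1
    have h2 : (γ - α ^ p) • x = 0 := by rw [sub_smul, h1, sub_self]
    rcases smul_eq_zero.1 h2 with h3 | h3
    · exact (sub_eq_zero.1 h3).symm
    · exact absurd h3 hx0
  have e2 : β ^ p = γ := by
    have h1 := key Y β hβ p y hy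
    rw [hγ] at h1
    have h2 : (γ - β ^ p) • y = 0 := by rw [sub_smul, h1, sub_self]
    rcases smul_eq_zero.1 h2 with h3 | h3
    · exact (sub_eq_zero.1 h3).symm
    · exact absurd h3 hy0
  have e3 : (β / α) ^ p = 1 := by
    rw [div_pow, e1, e2, div_self]
    rw [← e1]
    exact pow_ne_zero _ hα0
  have : NeZero p := ⟨hp.ne_zero⟩
  obtain ⟨i, -, hi⟩ := hζ.eq_pow_of_pow_eq_one e3
  have hki : ∀ n : ℕ, (∀ x ∈ X, (k ^ n) x = ζ ^ n • x) ∧ ∀ y ∈ Y, (k ^ n) y = y := by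
    intro n
    induction n with
    | zero => exact ⟨fun x _ => by rw [pow_zero, pow_zero, one_smul]; rfl, fun y _ => rfl⟩
    | succ n ih =>
      refine ⟨fun x hx => ?_, fun y hy => ?_⟩
      · rw [pow_succ, LinearEquiv.mul_apply, hkX x hx, map_smul, ih.1 x hx, smul_smul, pow_succ, mul_comm]
      · rw [pow_succ, LinearEquiv.mul_apply, hkY y hy, ih.2 y hy]
  have hmem : a * k ^ i ∈ hXY Φ p S hd (X ⊔ Y) := by
    refine ⟨Subgroup.mul_mem _ ha (Subgroup.pow_mem _ hkA i), β, fun w hw => ?_⟩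
    obtain ⟨x, hx, y, hy, rfl⟩ := Submodule.mem_sup.1 hw
    rw [LinearEquiv.mul_apply, map_add, (hki i).1 x hx, (hki i).2 y hy, map_add, map_smul, hα x hx, hβ y hy, smul_add,
      smul_smul, hi, div_mul_cancel₀ _ hα0]
  have h1 : a = (a * k ^ i) * (k ^ i)⁻¹ := by group
  rw [h1]
  exact Subgroup.mul_mem_sup hmem (Subgroup.inv_mem _ (Subgroup.pow_mem _ (Subgroup.mem_zpowers k) i))

/-- the element of `enlS` acting as `ζ` on `X` and trivially on `X^⟂` -/
theorem exists_cutS (hΦ : IsHerm r Φ) {ζ : F} (hζ : IsPrimitiveRoot ζ p) (hζr : ζ ^ (r + 1) = 1)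
    (hd : ODec Φ ⊥ (fun X : S => (X : Submodule F V))) {X : Submodule F V} (hX : X ∈ S) :
    ∃ k ∈ enlS Φ p S hd, Loc Φ X k ∧ ∀ x ∈ X, k x = ζ • x := by
  obtain ⟨k, hk, hkl, hkX⟩ := exists_scalar_on hΦ (hd.nd ⟨X, hX⟩) hζr
  have hkd := diag_of_loc hd hX hkl hkX
  have hkp : k ^ p = 1 := by
    refine ext_of_dec' hd fun Z hZ z hz => ?_
    have key : ∀ (c : F), (∀ z ∈ Z, k z = c • z) → ∀ n : ℕ, ∀ z ∈ Z, (k ^ n) z = c ^ n • z := by
      intro c hc n
      induction n with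
      | zero => intro z _; rw [pow_zero, pow_zero, one_smul]; rfl
      | succ n ih =>
        intro z hz
        rw [pow_succ, LinearEquiv.mul_apply, hc z hz, map_smul, ih z hz, smul_smul, pow_succ, mul_comm]
    by_cases h : Z = X
    · subst h
      rw [key ζ hkX p z hz, hζ.pow_eq_one, one_smul]
      rfl
    · have h1 : ∀ z ∈ Z, k z = (1 : F) • z := fun y hy => by
        rw [one_smul]
        exact hkl y fun x hx => hd.orth ⟨Z, hZ⟩ ⟨X, hX⟩ (fun e => h (congrArg Subtype.val e)) y hy x hx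
      rw [key 1 h1 p z hz, one_pow, one_smul]
      rfl
  exact ⟨k, ⟨hk, hkd, by rw [hkp]; exact (Scal Φ).one_mem⟩, hkl, hkX⟩

end Cfsg.Agent.H522.Gen.U
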