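import Cfsg.Agent.H522.Gen.UCop

/-!
# S2187, unitary row: linear form of the commuting case

`u_lin` : `A` the preimage in `GU` of a nontrivial elementary abelian `p`-group (with commuting preimages), without
invariant isotropic subspaces.  There is `A' ≥ A` of the same kind such that every `N` containing the normalizer of `A'` and
the centralizers in `SU` of the hyperplanes of `A'` modulo scalars contains all isometries fixing a hyperplane `v^⟂`.
-/

set_option autoImplicit false
set_option linter.unusedSectionVars false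

namespace Cfsg.Agent.H522.Gen.U

open Cfsg.Agent.H847.Bs Cfsg.Agent.H900.Gen

universe u v

variable {F : Type u} {V : Type v} [Field F] [AddCommGroup V] [Module F V]
variable [Finite F] [FiniteDimensional F V] {Φ : Frm F V} {A : Subgroup (V ≃ₗ[F] V)} {p r : ℕ}

/-- **The unitary row, commuting preimages, linear form.** -/
theorem u_lin (hΦ : IsHerm r Φ) (hA : Pa Φ p A) (hAn : Anis Φ A) (hne : A ≠ Scal Φ) (h2 : 2 ≤ Module.finrank F V)
    (h7 : r = 2 → 7 ≤ p) : ∃ A', A ≤ A' ∧ Pa Φ p A' ∧ ∀ N, NP Φ A' N → ∀ v g, Rv Φ v g → g ∈ N := by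
  have hV : Nontrivial V := Module.nontrivial_of_finrank_pos (R := F) (by omega)
  by_cases hpr : p ∣ r + 1
  · by_cases hsp : ∀ a ∈ A, ∃ z ∈ Scal Φ, a ^ p = z ^ p
    · refine split_main hΦ ?_ hA hAn h2 hpr hsp
      intro hr
      have h3 := h7 hr
      have h4 := Nat.le_of_dvd (by omega) hpr
      omega
    · push Not at hsp
      obtain ⟨x, hx, hnx⟩ := hsp
      exact nonsplit_main hΦ hA hAn hV hpr hx hnx
  · exact coprime_main hΦ hA hAn hne hV h7 hpr

end Cfsg.Agent.H522.Gen.U
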