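import Cfsg.Agent.H900.Gen.Enl
import Cfsg.Agent.H557.Bs.Herm
import Cfsg.Agent.LieClassical.HermBasic

/-!
# S2187, unitary row: elements of the centralizer of an irreducible isometry with given determinant

* `exists_norm_one` : `d ∈ F` of norm one is the norm of an element `l ∈ L` with `l * σ l = 1`;
* `exists_line` : `X` nondegenerate, irreducible under the isometry `b`, `b ^ 2 ≠ 1` on `X`: for every `d` with
  `d ^ (r + 1) = 1` there is an isometry `y` living on `X`, acting on `X` as a polynomial in `b`, with `det y = d`.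
-/

set_option autoImplicit false
set_option linter.unusedSectionVars false

namespace Cfsg.Agent.H522.Gen.U

open Cfsg.Agent.H847.Bs Cfsg.Agent.H900.Gen Polynomial

/-- norm one elements of `F` are norms of norm one elements of `L` -/
theorem exists_norm_one {F : Type*} [Field F] [Finite F] {r : ℕ} (hF : Nat.card F = r ^ 2) {L : Type*} [Field L] [Finite L]
    [Algebra F L] (s : F ≃+* F) (hs : ∀ a, s a = a ^ r) (σ : L ≃+* L) (hσ2 : ∀ l, σ (σ l) = l)
    (hσ : ∀ a : F, σ (algebraMap F L a) = algebraMap F L (s a)) {d : F} (hd : d ^ (r + 1) = 1) :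
    ∃ l : L, l * σ l = 1 ∧ Algebra.norm F l = d := by
  have hr2 : 2 ≤ r := Cfsg.Agent.H557.Bs.two_le_of_card hF
  have hd0 : d ≠ 0 := by
    rintro rfl
    rw [zero_pow (by omega)] at hd
    exact zero_ne_one hd
  -- `d = c / s c`
  obtain ⟨c, hc0, hc⟩ : ∃ c : F, c ≠ 0 ∧ d * c ^ r = c := by
    obtain ⟨ζ, hζ⟩ := IsCyclic.exists_generator (α := Fˣ)
    have ho : orderOf ζ = (r - 1) * (r + 1) := by
      rw [orderOf_eq_card_of_forall_mem_zpowers hζ]
      exact Cfsg.Agent.H557.Bs.card_units hF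
    obtain ⟨k, hk⟩ := (mem_powers_iff_mem_zpowers (x := ζ)).2 (hζ (Units.mk0 d hd0))
    have hk' : ζ ^ k = Units.mk0 d hd0 := hk
    have h1 : ζ ^ (k * (r + 1)) = 1 := by
      rw [pow_mul, hk']
      exact Units.ext (by rw [Units.val_pow_eq_pow_val, Units.val_mk0, hd]; rfl)
    have h2 := orderOf_dvd_of_pow_eq_one h1
    rw [ho] at h2
    obtain ⟨m, rfl⟩ := Nat.dvd_of_mul_dvd_mul_right (by omega) h2
    refine ⟨((ζ⁻¹ ^ m : Fˣ) : F), Units.ne_zero _, ?_⟩
    have h3 : Units.mk0 d hd0 * (ζ⁻¹ ^ m) ^ r = ζ⁻¹ ^ m := by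
      rw [← hk', ← pow_mul, inv_pow, inv_pow, mul_inv_eq_iff_eq_mul, inv_mul_eq_iff_eq_mul.2]
      rw [← pow_add]
      congr 1
      obtain ⟨t, rfl⟩ : ∃ t, r = t + 1 := ⟨r - 1, by omega⟩
      rw [Nat.add_sub_cancel]
      ring
    exact congrArg Units.val h3
  obtain ⟨z, hz⟩ := FiniteField.norm_surjective F L c
  have hz0 : z ≠ 0 := by
    rintro rfl
    rw [Algebra.norm_zero] at hz
    exact hc0 hz.symm
  have hσz : σ z ≠ 0 := by rwa [Ne, map_eq_zero]
  refine ⟨z / σ z, ?_, ?_⟩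
  · rw [map_div₀, hσ2]
    field_simp
  · have hN : Algebra.norm F (σ z) = c ^ r := by
      have h := Algebra.norm_eq_of_equiv_equiv s σ (by
        ext a
        exact (hσ a).symm) z
      rw [hz, RingEquiv.eq_symm_apply, hs] at h
      exact h.symm
    have h1 : Algebra.norm F (z / σ z) * c ^ r = c := by
      rw [← hN, ← map_mul, div_mul_cancel₀ _ hσz, hz]
    have h2 : c ^ r ≠ 0 := pow_ne_zero _ hc0
    apply mul_right_cancel₀ h2
    rw [h1, hc]

section Fld

universe u v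

variable {F : Type u} {V : Type v} [Field F] [AddCommGroup V] [Module F V] [Finite F] [FiniteDimensional F V]

/-- the field `F[b]` acting on `W` -/
theorem exists_fld {Φ : Frm F V} {W : Submodule F V} (hWn : Φ.NdOn W) {b : V ≃ₗ[F] V} (hb : b ∈ Φ.Iso) (hbW : Inv b W)
    {f : F[X]} (hf : Irreducible f) (hfW : ∀ w ∈ W, aeval (b : V →ₗ[F] V) f w = 0) (h2 : ∃ w ∈ W, b (b w) ≠ w) :
    ∃ (L : Type u) (_ : Field L) (_ : Finite L) (_ : Algebra F L) (_ : Module L W) (_ : IsScalarTower F L W)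
      (_ : Fld Φ W b L), ∀ l : L, ∃ g : F[X], ∀ w : W, ((l • w : W) : V) = aeval (b : V →ₗ[F] V) g w := by
  have hf0 : aeval (rs b hbW) f = 0 := by
    ext w
    rw [aeval_rs, hfW w w.2]
    rfl
  have : Fact (Irreducible f) := ⟨hf⟩
  let _ : Module (AdjoinRoot f) W := Module.compHom _ (phi (rs b hbW) f hf0)
  have hsm : ∀ (l : AdjoinRoot f) (w : W), l • w = phi (rs b hbW) f hf0 l w := fun _ _ => rfl
  have : IsScalarTower F (AdjoinRoot f) W := by
    constructor
    intro r l w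
    rw [hsm, hsm]
    obtain ⟨g, rfl⟩ := AdjoinRoot.mk_surjective l
    have e1 : r • AdjoinRoot.mk f g = AdjoinRoot.mk f (r • g) := rfl
    rw [e1, phi_mk, phi_mk, map_smul]
    rfl
  have : Module.Finite F (AdjoinRoot f) := (AdjoinRoot.powerBasis hf.ne_zero).finite
  have : Finite (AdjoinRoot f) := Module.finite_of_finite F
  have hroot : ∀ w : W, ((AdjoinRoot.root f • w : W) : V) = b w := by
    intro w
    rw [hsm]
    have e1 : phi (rs b hbW) f hf0 (AdjoinRoot.root f) = aeval (rs b hbW) (Polynomial.X : F[X]) := phi_mk _ _ _ _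
    rw [e1, aeval_X]
    rfl
  let D : Fld Φ W b (AdjoinRoot f) :=
    { β := AdjoinRoot.root f
      hβ := hroot
      gen := AdjoinRoot.adjoinRoot_eq_top
      two := h2
      nd := hWn
      iso := hb }
  refine ⟨AdjoinRoot f, _, inferInstance, _, _, inferInstance, D, fun l => ?_⟩
  obtain ⟨g, rfl⟩ := AdjoinRoot.mk_surjective l
  refine ⟨g, fun w => ?_⟩
  rw [hsm, phi_mk, aeval_rs]

theorem det_ext {Φ : Frm F V} {W : Submodule F V} (hW : Φ.NdOn W) (g : W ≃ₗ[F] W) :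
    LinearMap.det (Cfsg.Agent.H900.Gen.ext hW g : V →ₗ[F] V) = LinearMap.det (g : W →ₗ[F] W) := by
  unfold Cfsg.Agent.H900.Gen.ext
  rw [Cfsg.Agent.H557.Bs.det_glue]
  have : LinearMap.det ((LinearEquiv.refl F (Cfsg.Agent.H900.Gen.perp Φ W) : _ ≃ₗ[F] _) :
      Cfsg.Agent.H900.Gen.perp Φ W →ₗ[F] Cfsg.Agent.H900.Gen.perp Φ W) = 1 := LinearMap.det_id
  rw [this, mul_one]

/-- **Elements of given determinant in the centralizer of an irreducible isometry.** -/
theorem exists_line {Φ : Frm F V} {r : ℕ} (hΦ : IsHerm r Φ) {X : Submodule F V} (hXn : Φ.NdOn X) {b : V ≃ₗ[F] V}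
    (hb : b ∈ Φ.Iso) (hbX : Inv b X) (hX0 : X ≠ ⊥) (hirr : ∀ Z ≤ X, Inv b Z → Z = ⊥ ∨ Z = X)
    (h2 : ∃ x ∈ X, b (b x) ≠ x) {d : F} (hd : d ^ (r + 1) = 1) :
    ∃ y ∈ Φ.Iso, Loc Φ X y ∧ LinearMap.det (y : V →ₗ[F] V) = d ∧
      ∃ g : F[X], ∀ x ∈ X, y x = aeval (b : V →ₗ[F] V) g x := by
  have hCl : Cl Φ := Or.inr (Or.inl ⟨r, hΦ⟩)
  obtain ⟨H⟩ := hCl.hf
  have hs : ∀ a, H.s a = a ^ r := fun a => by rw [← H.hs, hΦ.s]
  have hf := minpoly_irr hX0 hbX hirr
  obtain ⟨L, _, _, _, _, _, D, hpol⟩ := exists_fld hXn hb hbX hf (fun w hw => by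
    have h1 := congrArg (fun z : X => (z : V)) (LinearMap.congr_fun (minpoly.aeval F (rs b hbX)) ⟨w, hw⟩)
    simp only [LinearMap.zero_apply] at h1
    rw [aeval_rs] at h1
    exact h1) h2
  obtain ⟨l, hl1, hl2⟩ := exists_norm_one hΦ.card (L := L) H.s hs (D.σ H) (fun l => by
    rw [Fld.σ_apply, Fld.σ_apply, D.adj_adj]) (fun a => by
    rw [Fld.σ_apply, D.adj_algebraMap]) hd
  have hl0 : l ≠ 0 := by
    rintro rfl
    rw [zero_mul] at hl1
    exact zero_ne_one hl1
  let y₀ : X ≃ₗ[L] X := LinearEquiv.smulOfNeZero L X l hl0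
  have hy₀ : ∀ x, y₀ x = l • x := fun _ => rfl
  have hisom : (D.lf H).Isom y₀ := by
    intro x y
    rw [hy₀, hy₀, (D.lf H).smul_left, (D.lf H).smul_right, ← mul_assoc]
    have : l * (D.lf H).σ l = 1 := hl1
    rw [this, one_mul]
  refine ⟨D.lift y₀, D.lift_iso H hCl hisom, D.lift_loc y₀, ?_, ?_⟩
  · -- the determinant
    have e1 : LinearMap.det (D.lift y₀ : V →ₗ[F] V) = LinearMap.det ((y₀.restrictScalars F : X ≃ₗ[F] X) : X →ₗ[F] X) :=
      det_ext D.nd (y₀.restrictScalars F)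
    rw [e1]
    obtain ⟨x, hx, hx0⟩ := (Submodule.ne_bot_iff _).1 hX0
    let x₀ : X := ⟨x, hx⟩
    have hx₀ : x₀ ≠ 0 := fun h => hx0 (congrArg Subtype.val h)
    let e : L →ₗ[F] X := (LinearMap.toSpanSingleton L X x₀).restrictScalars F
    have he : ∀ a, e a = a • x₀ := fun a => rfl
    have hinj : Function.Injective e := by
      rw [injective_iff_map_eq_zero]
      intro a ha
      rw [he] at ha
      by_contra h
      apply hx₀
      have h1 : a⁻¹ • (a • x₀) = x₀ := by rw [smul_smul, inv_mul_cancel₀ h, one_smul]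
      rw [← h1, ha, smul_zero]
    have hsurj : Function.Surjective e := by
      let Z : Submodule F V := (LinearMap.range e).map X.subtype
      have hZX : Z ≤ X := by
        rintro _ ⟨z, -, rfl⟩
        exact z.2
      have hZi : Inv b Z := by
        rintro _ ⟨_, ⟨a, rfl⟩, rfl⟩
        refine ⟨D.β • e a, ⟨D.β * a, ?_⟩, D.hβ _⟩
        rw [he, he, mul_smul]
      rcases hirr Z hZX hZi with h | h
      · exfalso
        have h1 : x ∈ Z := ⟨x₀, ⟨1, by rw [he, one_smul]⟩, rfl⟩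
        rw [h, Submodule.mem_bot] at h1
        exact hx0 h1
      · intro z
        have hz : (z : V) ∈ Z := h.symm ▸ z.2
        obtain ⟨w, ⟨a, ha⟩, hw⟩ := hz
        exact ⟨a, ha.trans (Subtype.ext hw)⟩
    let e' : L ≃ₗ[F] X := LinearEquiv.ofBijective e ⟨hinj, hsurj⟩
    have h3 : ((y₀.restrictScalars F : X ≃ₗ[F] X) : X →ₗ[F] X) =
        (e' : L →ₗ[F] X) ∘ₗ (Algebra.lmul F L l : L →ₗ[F] L) ∘ₗ (e'.symm : X →ₗ[F] L) := by
      ext z
      obtain ⟨a, rfl⟩ := e'.surjective z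
      simp only [LinearMap.comp_apply, LinearEquiv.coe_coe, LinearEquiv.symm_apply_apply]
      show ((l • (a • x₀) : X) : V) = (((l * a) • x₀ : X) : V)
      rw [mul_smul]
    rw [h3, LinearMap.det_conj, ← hl2]
    rfl
  · obtain ⟨g, hg⟩ := hpol l
    refine ⟨g, fun x hx => ?_⟩
    have h1 := D.lift_mem y₀ ⟨x, hx⟩
    rw [hy₀, hg] at h1
    exact h1

end Fld

end Cfsg.Agent.H522.Gen.U
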