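import Cfsg.Agent.H522.Gen.UBase

/-!
# S2187, unitary row: the split case

`p ∣ r + 1`, every `a ^ p` (`a ∈ A`) is the `p`-th power of a scalar isometry: `V` is an orthogonal sum of `A`-invariant lines.
`split_main` : `N` contains all isometries fixing a hyperplane `v^⟂` pointwise.
-/

set_option autoImplicit false
set_option linter.unusedSectionVars false

namespace Cfsg.Agent.H522.Gen.U

open Cfsg.Agent.H847.Bs Cfsg.Agent.H900.Gen Polynomial

universe u v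

variable {F : Type u} {V : Type v} [Field F] [AddCommGroup V] [Module F V]
variable [Finite F] [FiniteDimensional F V] {Φ : Frm F V} {A : Subgroup (V ≃ₗ[F] V)} {p r : ℕ}

/-- an element whose `p`-th power is the `p`-th power of a scalar acts as a scalar on the irreducible submodules -/
theorem scalar_on (hA : Pa Φ p A) {ζ : F} (hζ : IsPrimitiveRoot ζ p) {X : Submodule F V} (hX : Gi Φ A X)
    {a : V ≃ₗ[F] V} (ha : a ∈ A) {z : V ≃ₗ[F] V} (hz : z ∈ Scal Φ) (haz : a ^ p = z ^ p) :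
    ∃ c : F, ∀ x ∈ X, a x = c • x := by
  obtain ⟨c0, hc0⟩ := hz.2
  have hz' := (Scal Φ).inv_mem hz
  have hb : (a * z⁻¹) ^ p = 1 := by
    rw [(show Commute a z⁻¹ from Scal.comm hz' a).mul_pow, inv_pow, haz, mul_inv_cancel]
  have hbA : a * z⁻¹ ∈ A := A.mul_mem ha (hA.scal hz')
  obtain ⟨i, x, hx, hx0, hbx⟩ := exists_eigen hζ hA.prime hA.char hb (hX.inv _ hbA) hX.ne
  set b := a * z⁻¹ with hbdef
  let Z : Submodule F V := X ⊓ LinearMap.ker ((b : V →ₗ[F] V) - (ζ ^ i) • LinearMap.id)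
  have hmem : ∀ y, y ∈ Z ↔ y ∈ X ∧ b y = ζ ^ i • y := by
    intro y
    rw [Submodule.mem_inf, LinearMap.mem_ker, LinearMap.sub_apply, LinearMap.smul_apply, LinearMap.id_apply, sub_eq_zero]
    rfl
  have hZ : InvA A Z := by
    intro c hc y hy
    rw [hmem] at hy ⊢
    refine ⟨hX.inv c hc y hy.1, ?_⟩
    have h1 : b (c y) = c (b y) := congrArg (fun g : V ≃ₗ[F] V => g y) (hA.comm b hbA c hc)
    rw [h1, hy.2, map_smul]
  rcases hX.min Z inf_le_left hZ with h | h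
  · exfalso
    have h1 : x ∈ Z := (hmem x).2 ⟨hx, hbx⟩
    rw [h, Submodule.mem_bot] at h1
    exact hx0 h1
  · refine ⟨ζ ^ i * c0, fun y hy => ?_⟩
    have h1 : y ∈ Z := h.symm ▸ hy
    have h2 : a y = b (z y) := by
      rw [hbdef, LinearEquiv.mul_apply]
      congr 1
      exact (z.symm_apply_apply y).symm
    rw [h2, hc0, map_smul, ((hmem y).1 h1).2, smul_smul, mul_comm]

/-- if `A` acts by scalars on the irreducible module `X`, it is a line -/
theorem line_of_scalar {X : Submodule F V} (hX : Gi Φ A X) (h : ∀ a ∈ A, ∃ c : F, ∀ x ∈ X, a x = c • x) {x₀ : V}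
    (hx₀ : x₀ ∈ X) (h0 : x₀ ≠ 0) : ∀ x ∈ X, ∃ c : F, x = c • x₀ := by
  have h1 : Submodule.span F {x₀} ≤ X := by
    rw [Submodule.span_singleton_le_iff_mem]
    exact hx₀
  have h2 : InvA A (Submodule.span F {x₀}) := by
    intro a ha y hy
    obtain ⟨c, hc⟩ := h a ha
    rw [hc y (h1 hy)]
    exact Submodule.smul_mem _ _ hy
  rcases hX.min _ h1 h2 with h3 | h3
  · exfalso
    rw [Submodule.span_singleton_eq_bot] at h3
    exact h0 h3
  · intro x hx
    rw [← h3] at hx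
    obtain ⟨c, hc⟩ := Submodule.mem_span_singleton.1 hx
    exact ⟨c, hc.symm⟩

/-- diagonal isometries with scalar `p`-th power -/
def enlS (Φ : Frm F V) (p : ℕ) (S : Set (Submodule F V)) (hd : ODec Φ ⊥ (fun X : S => (X : Submodule F V))) :
    Subgroup (V ≃ₗ[F] V) where
  carrier := {g | g ∈ Φ.Iso ∧ (∀ X ∈ S, ∃ c : F, ∀ x ∈ X, g x = c • x) ∧ g ^ p ∈ Scal Φ}
  mul_mem' := by
    rintro g h ⟨hg1, hg2, hg3⟩ ⟨hh1, hh2, hh3⟩
    refine ⟨Φ.Iso.mul_mem hg1 hh1, fun X hX => ?_, ?_⟩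
    · obtain ⟨c, hc⟩ := hg2 X hX
      obtain ⟨d, hd⟩ := hh2 X hX
      exact ⟨c * d, fun x hx => by rw [LinearEquiv.mul_apply, hd x hx, map_smul, hc x hx, smul_smul, mul_comm]⟩
    · have h1 : Commute g h := by
        refine ext_of_dec' hd fun X hX x hx => ?_
        obtain ⟨c, hc⟩ := hg2 X hX
        obtain ⟨d, hd⟩ := hh2 X hX
        rw [LinearEquiv.mul_apply, LinearEquiv.mul_apply, hd x hx, hc x hx, map_smul, map_smul, hd x hx, hc x hx,
          smul_smul, smul_smul, mul_comm]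
      rw [h1.mul_pow]
      exact (Scal Φ).mul_mem hg3 hh3
  one_mem' := ⟨Φ.Iso.one_mem, fun X _ => ⟨1, fun x _ => (one_smul _ _).symm⟩, by rw [one_pow]; exact (Scal Φ).one_mem⟩
  inv_mem' := by
    rintro g ⟨hg1, hg2, hg3⟩
    refine ⟨Φ.Iso.inv_mem hg1, fun X hX => ?_, by rw [inv_pow]; exact (Scal Φ).inv_mem hg3⟩
    obtain ⟨c, hc⟩ := hg2 X hX
    by_cases h0 : c = 0
    · refine ⟨1, fun x hx => ?_⟩
      have h1 := hc x hx
      rw [h0, zero_smul, LinearEquiv.map_eq_zero_iff] at h1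
      rw [h1, map_zero, smul_zero]
    · refine ⟨c⁻¹, fun x hx => ?_⟩
      have h1 : g (c⁻¹ • x) = x := by rw [map_smul, hc x hx, smul_smul, inv_mul_cancel₀ h0, one_smul]
      have h2 : g⁻¹ (g (c⁻¹ • x)) = c⁻¹ • x := g.symm_apply_apply _
      rwa [h1] at h2

variable {S : Set (Submodule F V)} {hd : ODec Φ ⊥ (fun X : S => (X : Submodule F V))}

/-- two diagonal automorphisms commute -/
theorem comm_diag (hd : ODec Φ ⊥ (fun X : S => (X : Submodule F V))) {g h : V ≃ₗ[F] V}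
    (hg : ∀ X ∈ S, ∃ c : F, ∀ x ∈ X, g x = c • x)
    (hh : ∀ X ∈ S, ∃ c : F, ∀ x ∈ X, h x = c • x) : g * h = h * g := by
  refine ext_of_dec' hd fun X hX x hx => ?_
  obtain ⟨c, hc⟩ := hg X hX
  obtain ⟨d, hd⟩ := hh X hX
  rw [LinearEquiv.mul_apply, LinearEquiv.mul_apply, hd x hx, hc x hx, map_smul, map_smul, hd x hx, hc x hx,
    smul_smul, smul_smul, mul_comm]

theorem pa_enlS (hA : Pa Φ p A) (hd : ODec Φ ⊥ (fun X : S => (X : Submodule F V))) : Pa Φ p (enlS Φ p S hd) where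
  le := fun g hg => hg.1
  comm := fun g hg h hh => comm_diag hd hg.2.1 hh.2.1
  pow := fun g hg => hg.2.2
  scal := fun z hz => ⟨hz.1, fun X _ => by
    obtain ⟨c, hc⟩ := hz.2
    exact ⟨c, fun x _ => hc x⟩, (Scal Φ).pow_mem hz p⟩
  prime := hA.prime
  odd := hA.odd
  char := hA.char

theorem diag_mem {N : Subgroup (V ≃ₗ[F] V)} (hN : NP Φ (enlS Φ p S hd) N) {t : V ≃ₗ[F] V} (ht : t ∈ Φ.Iso)
    (htd : ∀ X ∈ S, ∃ c : F, ∀ x ∈ X, t x = c • x) : t ∈ N := by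
  refine hN.n1 t ht fun a ha => ?_
  rw [comm_diag hd htd ha.2.1, mul_inv_cancel_right]
  exact ha

/-- an isometry living on `X ∈ S` and scalar there is diagonal -/
theorem diag_of_loc (hd : ODec Φ ⊥ (fun X : S => (X : Submodule F V))) {X : Submodule F V} (hX : X ∈ S) {t : V ≃ₗ[F] V}
    (htl : Loc Φ X t) {c : F} (htX : ∀ x ∈ X, t x = c • x) : ∀ Y ∈ S, ∃ c : F, ∀ x ∈ Y, t x = c • x := by
  intro Y hY
  by_cases h : Y = X
  · subst h
    exact ⟨c, htX⟩
  · refine ⟨1, fun y hy => ?_⟩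
    rw [one_smul]
    exact htl y fun x hx => hd.orth ⟨Y, hY⟩ ⟨X, hX⟩ (fun e => h (congrArg Subtype.val e)) y hy x hx

theorem det_scalar_on (hΦ : IsHerm r Φ) {X : Submodule F V} (hXn : Φ.NdOn X) {c : F} (h : c ^ (r + 1) = 1) :
    ∃ g ∈ Φ.Iso, Loc Φ X g ∧ (∀ x ∈ X, g x = c • x) ∧ LinearMap.det (g : V →ₗ[F] V) = c ^ Module.finrank F X := by
  have h1 : sc F X c (ne_zero_of_norm h) ∈ (Φ.on X).Iso := by
    have hX : IsHerm r (Φ.on X) :=
      ⟨fun x hx => Subtype.ext (hXn x x.2 fun y hy => hx ⟨y, hy⟩), hΦ.card, hΦ.s, fun x => hΦ.q x, fun x y => hΦ.symm x y⟩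
    exact (sc_mem hX h).1
  refine ⟨_, ext_mem_iso hXn h1, ext_loc hXn _, fun x hx => ext_apply_mem hXn _ ⟨x, hx⟩, ?_⟩
  rw [det_ext]
  have h2 : (sc F X c (ne_zero_of_norm h) : X →ₗ[F] X) = c • LinearMap.id := by
    ext x
    rfl
  rw [h2, LinearMap.det_smul, LinearMap.det_id, mul_one]

/-- an isometry living on `W` commutes with the isometries which are scalar on `W` -/
theorem comm_of_scalar (hΦ : IsHerm r Φ) {W : Submodule F V} (hW : Φ.NdOn W) (hW0 : W ≠ ⊥) {g h : V ≃ₗ[F] V}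
    (hg : g ∈ Φ.Iso) (hgl : Loc Φ W g) (hh : h ∈ Φ.Iso) {c : F} (hhW : ∀ w ∈ W, h w = c • w) : g * h = h * g := by
  have hc := norm_of_scalar hΦ hh hW hW0 hhW
  have hz := sc_mem (V := V) hΦ hc
  set z := sc F V c (ne_zero_of_norm hc) with hzdef
  have h1 : g * (h * z⁻¹) = (h * z⁻¹) * g := by
    refine comm_of_loc hΦ.nd hW hg hgl (Φ.Iso.mul_mem hh (Φ.Iso.inv_mem hz.1)) fun w hw => ?_
    have e : z⁻¹ w = c⁻¹ • w := by
      have h2 : z (c⁻¹ • w) = w := by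
        rw [hzdef, sc_apply, smul_smul, mul_inv_cancel₀ (ne_zero_of_norm hc), one_smul]
      have h3 : z⁻¹ (z (c⁻¹ • w)) = c⁻¹ • w := z.symm_apply_apply _
      rwa [h2] at h3
    rw [LinearEquiv.mul_apply, e, map_smul, hhW w hw, smul_smul, inv_mul_cancel₀ (ne_zero_of_norm hc), one_smul]
  have h2 : h = (h * z⁻¹) * z := by group
  rw [h2, ← mul_assoc, h1, mul_assoc, Scal.comm hz, ← mul_assoc]

/-- `N` contains the isometries living on `X ⊔ Y` -/
theorem has1_pair (hΦ : IsHerm r Φ) (hA : Pa Φ p A) {ζ : F} (hζ : IsPrimitiveRoot ζ p) (hζr : ζ ^ (r + 1) = 1)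
    (hS : ∀ X ∈ S, Gi Φ A X) (hline : ∀ X ∈ S, Module.finrank F X = 1) {N : Subgroup (V ≃ₗ[F] V)}
    (hN : NP Φ (enlS Φ p S hd) N) {X Y : Submodule F V} (hX : X ∈ S) (hY : Y ∈ S) (hXY : X ≠ Y) :
    Has1 Φ N (X ⊔ Y) := by
  intro g hg hgl
  have hXn := (hS X hX).nd
  have hYn := (hS Y hY).nd
  have hor : Φ.Orth X Y := hd.orth ⟨X, hX⟩ ⟨Y, hY⟩ fun e => hXY (congrArg Subtype.val e)
  have hWn := ndOn_sup hXn hYn hor
  have hW0 : X ⊔ Y ≠ ⊥ := fun h => (hS X hX).ne (le_bot_iff.1 (h ▸ le_sup_left))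
  obtain ⟨t, ht, htl, htX, htd⟩ := det_scalar_on hΦ hXn (Cfsg.Agent.H557.Bs.det_norm hΦ hg)
  rw [hline X hX, pow_one] at htd
  have htN : t ∈ N := diag_mem hN ht (diag_of_loc hd hX htl htX)
  obtain ⟨k, hk, hkl, hkX, -⟩ := det_scalar_on hΦ hXn hζr
  have hkd := diag_of_loc hd hX hkl hkX
  have hkp : k ^ p = 1 := by
    refine ext_of_dec' hd fun Z hZ z hz => ?_
    have key : ∀ (c : F), (∀ z ∈ Z, k z = c • z) → ∀ n : ℕ, ∀ z ∈ Z, (k ^ n) z = c ^ n • z := by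
      intro c hc n
      induction n with
      | zero => intro z _; rw [pow_zero, pow_zero, one_smul]; rfl
      | succ n ih =>
        intro z hz
        rw [pow_succ, LinearEquiv.mul_apply, hc z hz, map_smul, ih z hz, smul_smul, pow_succ, mul_comm]
    by_cases h : Z = X
    · subst h
      rw [key ζ hkX p z hz, hζ.pow_eq_one, one_smul]
      rfl
    · have h1 : ∀ z ∈ Z, k z = (1 : F) • z := fun y hy => by
        rw [one_smul]
        exact hkl y fun x hx => hd.orth ⟨Z, hZ⟩ ⟨X, hX⟩ (fun e => h (congrArg Subtype.val e)) y hy x hx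
      rw [key 1 h1 p z hz, one_pow, one_smul]
      rfl
  have hkA : k ∈ enlS Φ p S hd := ⟨hk, hkd, by rw [hkp]; exact (Scal Φ).one_mem⟩
  let H : Subgroup (V ≃ₗ[F] V) :=
    { carrier := {h | h ∈ enlS Φ p S hd ∧ ∃ c : F, ∀ w ∈ X ⊔ Y, h w = c • w}
      mul_mem' := by
        rintro a b ⟨ha, c, hc⟩ ⟨hb, d, hd⟩
        exact ⟨Subgroup.mul_mem _ ha hb, c * d, fun w hw => by
          rw [LinearEquiv.mul_apply, hd w hw, map_smul, hc w hw, smul_smul, mul_comm]⟩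
      one_mem' := ⟨Subgroup.one_mem _, 1, fun w _ => (one_smul _ _).symm⟩
      inv_mem' := by
        rintro a ⟨ha, c, hc⟩
        refine ⟨Subgroup.inv_mem _ ha, c⁻¹, fun w hw => ?_⟩
        have h0 := ne_zero_of_norm (norm_of_scalar hΦ ha.1 hWn hW0 hc)
        have h1 : a (c⁻¹ • w) = w := by rw [map_smul, hc w hw, smul_smul, inv_mul_cancel₀ h0, one_smul]
        have h2 : a⁻¹ (a (c⁻¹ • w)) = c⁻¹ • w := a.symm_apply_apply _
        rwa [h1] at h2 }
  have hcomm : ∀ f ∈ H, (t⁻¹ * g) * f = f * (t⁻¹ * g) := by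
    rintro f ⟨hf, c, hc⟩
    have hl : Loc Φ (X ⊔ Y) (t⁻¹ * g) := by
      intro x hx
      rw [LinearEquiv.mul_apply, hgl x hx]
      have h1 : t x = x := htl x fun y hy => hx y (Submodule.mem_sup_left hy)
      have h2 : t⁻¹ (t x) = x := t.symm_apply_apply x
      rwa [h1] at h2
    exact comm_of_scalar hΦ hWn hW0 (Φ.Iso.mul_mem (Φ.Iso.inv_mem ht) hg) hl hf.1 hc
  have hdet : t⁻¹ * g ∈ Φ.Iso ⊓ slV F V := by
    refine ⟨Φ.Iso.mul_mem (Φ.Iso.inv_mem ht) hg, ?_⟩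
    show LinearMap.det ((t⁻¹ * g : V ≃ₗ[F] V) : V →ₗ[F] V) = 1
    have h1 : LinearMap.det ((t * (t⁻¹ * g) : V ≃ₗ[F] V) : V →ₗ[F] V) = LinearMap.det (g : V →ₗ[F] V) := by
      rw [mul_inv_cancel_left]
    rw [Cfsg.Agent.H557.Bs.det_mul', htd] at h1
    have h2 : LinearMap.det (g : V →ₗ[F] V) ≠ 0 := ne_zero_of_norm (Cfsg.Agent.H557.Bs.det_norm hΦ hg)
    exact mul_left_cancel₀ h2 (by rw [h1, mul_one])
  have hgen : enlS Φ p S hd ≤ H ⊔ Subgroup.zpowers k := by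
    intro a ha
    obtain ⟨α, hα⟩ := ha.2.1 X hX
    obtain ⟨β, hβ⟩ := ha.2.1 Y hY
    obtain ⟨-, γ, hγ⟩ := ha.2.2
    have key : ∀ (Z : Submodule F V) (c : F), (∀ z ∈ Z, a z = c • z) → ∀ n : ℕ, ∀ z ∈ Z, (a ^ n) z = c ^ n • z := by
      intro Z c hc n
      induction n with
      | zero => intro z _; rw [pow_zero, pow_zero, one_smul]; rfl
      | succ n ih =>
        intro z hz
        rw [pow_succ, LinearEquiv.mul_apply, hc z hz, map_smul, ih z hz, smul_smul, pow_succ, mul_comm]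
    have hα0 := ne_zero_of_norm (norm_of_scalar hΦ ha.1 hXn (hS X hX).ne hα)
    obtain ⟨x, hx, hx0⟩ := (Submodule.ne_bot_iff _).1 (hS X hX).ne
    obtain ⟨y, hy, hy0⟩ := (Submodule.ne_bot_iff _).1 (hS Y hY).ne
    have e1 : α ^ p = γ := by
      have h1 := key X α hα p x hx
      rw [hγ] at h1
      have h2 : (γ - α ^ p) • x = 0 := by rw [sub_smul, h1, sub_self]
      rcases smul_eq_zero.1 h2 with h3 | h3
      · exact (sub_eq_zero.1 h3).symm
      · exact absurd h3 hx0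
    have e2 : β ^ p = γ := by
      have h1 := key Y β hβ p y hy
      rw [hγ] at h1
      have h2 : (γ - β ^ p) • y = 0 := by rw [sub_smul, h1, sub_self]
      rcases smul_eq_zero.1 h2 with h3 | h3
      · exact (sub_eq_zero.1 h3).symm
      · exact absurd h3 hy0
    have e3 : (β / α) ^ p = 1 := by
      rw [div_pow, e1, e2, div_self]
      rw [← e1]
      exact pow_ne_zero _ hα0
    have : NeZero p := ⟨hA.prime.ne_zero⟩
    obtain ⟨i, -, hi⟩ := hζ.eq_pow_of_pow_eq_one e3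
    have hki : ∀ n : ℕ, (∀ x ∈ X, (k ^ n) x = ζ ^ n • x) ∧ ∀ y ∈ Y, (k ^ n) y = y := by
      intro n
      induction n with
      | zero => exact ⟨fun x _ => by rw [pow_zero, pow_zero, one_smul]; rfl, fun y _ => rfl⟩
      | succ n ih =>
        refine ⟨fun x hx => ?_, fun y hy => ?_⟩
        · rw [pow_succ, LinearEquiv.mul_apply, hkX x hx, map_smul, ih.1 x hx, smul_smul, pow_succ, mul_comm]
        · rw [pow_succ, LinearEquiv.mul_apply, hkl y fun x hx => Φ.refl _ _ (hor x hx y hy), ih.2 y hy]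
    have hmem : a * k ^ i ∈ H := by
      refine ⟨Subgroup.mul_mem _ ha (Subgroup.pow_mem _ hkA i), β, fun w hw => ?_⟩
      obtain ⟨x, hx, y, hy, rfl⟩ := Submodule.mem_sup.1 hw
      rw [LinearEquiv.mul_apply, map_add, (hki i).1 x hx, (hki i).2 y hy, map_add, map_smul, hα x hx, hβ y hy, smul_add,
        smul_smul, hi, div_mul_cancel₀ _ hα0]
    have h1 : a = (a * k ^ i) * (k ^ i)⁻¹ := by group
    rw [h1]
    exact Subgroup.mul_mem _ ((le_sup_left : H ≤ H ⊔ Subgroup.zpowers k) hmem)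
      ((le_sup_right : Subgroup.zpowers k ≤ H ⊔ Subgroup.zpowers k)
        (Subgroup.inv_mem _ (Subgroup.pow_mem _ (Subgroup.mem_zpowers k) i)))
  have hScal : Scal Φ ≤ H := by
    rintro z hz
    obtain ⟨c, hc⟩ := hz.2
    exact ⟨(pa_enlS hA hd).scal hz, c, fun w _ => hc w⟩
  have h1 := hN.n2 k hkA H (fun h hh => hh.1) hScal hgen _ hdet hcomm
  have h2 : g = t * (t⁻¹ * g) := by group
  rw [h2]
  exact N.mul_mem htN h1

end Cfsg.Agent.H522.Gen.U
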