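import Cfsg.Agent.H522.Gen.USplitOrb

/-!
# S2187, unitary row: the split case, conclusion
-/

set_option autoImplicit false
set_option linter.unusedSectionVars false

namespace Cfsg.Agent.H522.Gen.U

open Cfsg.Agent.H847.Bs Cfsg.Agent.H900.Gen Polynomial

universe u v

variable {F : Type u} {V : Type v} [Field F] [AddCommGroup V] [Module F V]
variable [Finite F] [FiniteDimensional F V] {Φ : Frm F V} {A : Subgroup (V ≃ₗ[F] V)} {p r : ℕ}

theorem finrank_line {X : Submodule F V} (hX : X ≠ ⊥) (h : ∀ x₀ ∈ X, x₀ ≠ 0 → ∀ x ∈ X, ∃ c : F, x = c • x₀) :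
    Module.finrank F X = 1 := by
  obtain ⟨x, hx, hx0⟩ := (Submodule.ne_bot_iff _).1 hX
  rw [finrank_eq_one_iff_of_nonzero' (⟨x, hx⟩ : X) (fun e => hx0 (congrArg Subtype.val e))]
  intro w
  obtain ⟨c, hc⟩ := h x hx hx0 w w.2
  exact ⟨c, Subtype.ext hc.symm⟩

theorem two_of_finrank {S : Set (Submodule F V)} (hd : ODec Φ ⊥ (fun X : S => (X : Submodule F V)))
    (hline : ∀ X ∈ S, Module.finrank F X = 1) (h2 : 2 ≤ Module.finrank F V) : ∃ X Y : S, X ≠ Y := by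
  by_contra hcon
  push Not at hcon
  have h1 : (⊤ : Submodule F V) = ⨆ i : S, (i : Submodule F V) := by
    rw [← hd.span, bot_sup_eq]
  have h3 : Module.finrank F (⊤ : Submodule F V) = Module.finrank F V := finrank_top F V
  rcases isEmpty_or_nonempty S with h | ⟨⟨X⟩⟩
  · rw [iSup_of_empty] at h1
    rw [h1, finrank_bot] at h3
    omega
  · have h4 : ⨆ i : S, (i : Submodule F V) = X :=
      le_antisymm (iSup_le fun i => by rw [hcon i X]) (le_iSup (fun i : S => (i : Submodule F V)) X)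
    rw [h1, h4, hline X X.2] at h3
    omega

/-- **The split case.** -/
theorem split_main (hΦ : IsHerm r Φ) (hr : r ≠ 2) (hA : Pa Φ p A) (hAn : Anis Φ A) (h2 : 2 ≤ Module.finrank F V)
    (hpr : p ∣ r + 1) (hsp : ∀ a ∈ A, ∃ z ∈ Scal Φ, a ^ p = z ^ p) :
    ∃ A', A ≤ A' ∧ Pa Φ p A' ∧ ∀ N, NP Φ A' N → ∀ v g, Rv Φ v g → g ∈ N := by
  obtain ⟨S, hd, hS⟩ := exists_odec' hΦ hA.le hAn
  obtain ⟨ζ, hζ, hζr⟩ := exists_zeta hΦ.card hA.prime hpr
  have hsc : ∀ X ∈ S, ∀ a ∈ A, ∃ c : F, ∀ x ∈ X, a x = c • x := by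
    intro X hX a ha
    obtain ⟨z, hz, haz⟩ := hsp a ha
    exact scalar_on hA hζ (hS X hX) ha hz haz
  have hline : ∀ X ∈ S, ∀ x₀ ∈ X, x₀ ≠ 0 → ∀ x ∈ X, ∃ c : F, x = c • x₀ :=
    fun X hX x₀ hx₀ h0 => line_of_scalar (hS X hX) (hsc X hX) hx₀ h0
  have hfin : ∀ X ∈ S, Module.finrank F X = 1 := fun X hX => finrank_line (hS X hX).ne (hline X hX)
  have : Finite V := Module.finite_of_finite F
  have : Finite (Submodule F V) := Finite.of_injective (fun X : Submodule F V => (X : Set V)) SetLike.coe_injective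
  refine ⟨enlS Φ p S hd, fun a ha => ⟨hA.le ha, fun X hX => hsc X hX a ha, hA.pow a ha⟩, pa_enlS hA hd, ?_⟩
  intro N hN v g hvg
  exact split_R hΦ hr hd hline (two_of_finrank hd hfin h2) hN.le
    (fun X Y hXY => has1_pair hΦ hA hζ hζr hS hfin hN X.2 Y.2 fun e => hXY (Subtype.ext e)) hvg

end Cfsg.Agent.H522.Gen.U
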