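import Cfsg.Agent.H522.Gen.USplit

/-!
# S2187, unitary row: the split case, orbits

`split_orbit` : every vector can be moved by `N` into the sum of two of the lines.
`split_main` : `N` contains all isometries fixing a hyperplane `v^⟂` pointwise.
-/

set_option autoImplicit false
set_option linter.unusedSectionVars false

namespace Cfsg.Agent.H522.Gen.U

open Cfsg.Agent.H847.Bs Cfsg.Agent.H900.Gen Polynomial

universe u v

variable {F : Type u} {V : Type v} [Field F] [AddCommGroup V] [Module F V]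
variable [Finite F] [FiniteDimensional F V] {Φ : Frm F V} {A : Subgroup (V ≃ₗ[F] V)} {p r : ℕ}

theorem exists_nrm (hF : Nat.card F = r ^ 2) {c : F} (hc : c ^ r = c) : ∃ x : F, x * x ^ r = c := by
  have := Fintype.ofFinite F
  exact Cfsg.Agent.LieClassical.HermBasic.exists_norm_eq (by rw [← Nat.card_eq_fintype_card, hF]) hc

/-- a norm different from `0` and `1` -/
theorem exists_gamma (hF : Nat.card F = r ^ 2) (hr : r ≠ 2) : ∃ x : F, x * x ^ r ≠ 0 ∧ x * x ^ r ≠ 1 := by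
  have := Fintype.ofFinite F
  have hF' : Fintype.card F = r ^ 2 := by rw [← Nat.card_eq_fintype_card, hF]
  have h2 := Cfsg.Agent.H557.Bs.two_le_of_card hF
  have h1 := Cfsg.Agent.LieClassical.HermBasic.card_fixed hF'
  obtain ⟨c, hc, hc0, hc1⟩ : ∃ c : F, c ^ r = c ∧ c ≠ 0 ∧ c ≠ 1 := by
    by_contra hcon
    push Not at hcon
    classical
    have h3 : Nat.card {x : F // x ^ r = x} ≤ Nat.card (Fin 2) := by
      refine Nat.card_le_card_of_injective (fun x : {x : F // x ^ r = x} => if (x : F) = 0 then (0 : Fin 2) else 1) ?_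
      intro x y h
      apply Subtype.ext
      by_cases hx : (x : F) = 0 <;> by_cases hy : (y : F) = 0
      · rw [hx, hy]
      · simp [hx, hy] at h
      · simp [hx, hy] at h
      · rw [hcon x x.2 hx, hcon y y.2 hy]
    rw [h1, Nat.card_fin] at h3
    omega
  obtain ⟨x, hx⟩ := exists_nrm hF hc
  exact ⟨x, by rwa [hx], by rwa [hx]⟩

theorem B_self (hΦ : IsHerm r Φ) (x : V) : Φ.B x x ^ r = Φ.B x x := (hΦ.symm x x).symm

theorem B_smul_self (hΦ : IsHerm r Φ) (c : F) (x : V) : Φ.B (c • x) (c • x) = c * c ^ r * Φ.B x x := by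
  rw [Φ.smul_left, Φ.smul_right, hΦ.s]
  ring

theorem B_line_ne {X : Submodule F V} (hXn : Φ.NdOn X) (h : ∀ x₀ ∈ X, x₀ ≠ 0 → ∀ x ∈ X, ∃ c : F, x = c • x₀)
    {x : V} (hx : x ∈ X) (hx0 : x ≠ 0) : Φ.B x x ≠ 0 := by
  intro h0
  apply hx0
  refine hXn x hx fun y hy => ?_
  obtain ⟨c, rfl⟩ := h x hx hx0 y hy
  rw [Φ.smul_right, h0, mul_zero]

theorem pair_move (hΦ : IsHerm r Φ) {X Y : Submodule F V} (hXn : Φ.NdOn X) (hYn : Φ.NdOn Y) (hor : Φ.Orth X Y)
    {x y : V} (hx : x ∈ X) (hy : y ∈ Y) (hxx : Φ.B x x ≠ 0) (hs : Φ.B x x + Φ.B y y ≠ 0) :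
    ∃ g ∈ Φ.Iso, Loc Φ (X ⊔ Y) g ∧ g (x + y) ∈ X := by
  have hW := ndOn_sup hXn hYn hor
  have hxy := hor x hx y hy
  have hyx := Φ.refl _ _ hxy
  have hB : Φ.B (x + y) (x + y) = Φ.B x x + Φ.B y y := by
    rw [Φ.add_left, Φ.add_right, Φ.add_right, hxy, hyx, add_zero, zero_add]
  have hr : (Φ.B (x + y) (x + y) / Φ.B x x) ^ r = Φ.B (x + y) (x + y) / Φ.B x x := by
    rw [div_pow, B_self hΦ, B_self hΦ]
  obtain ⟨c, hc⟩ := exists_nrm hΦ.card hr
  have h1 : Φ.B (c • x) (c • x) = Φ.B (x + y) (x + y) := by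
    rw [B_smul_self hΦ, hc, div_mul_cancel₀ _ hxx]
  have hcl : Cl Φ := Or.inr (Or.inl ⟨r, hΦ⟩)
  have hne : ∀ z : V, Φ.B z z ≠ 0 → z ≠ 0 := by
    rintro z h rfl
    exact h (Cfsg.Agent.H900.Gen.B_zero_left Φ 0)
  obtain ⟨g, hg, hgl, hgx⟩ := hcl.witt_on hW (Submodule.add_mem_sup hx hy) (Submodule.mem_sup_left (X.smul_mem c hx))
    (hne _ (by rw [hB]; exact hs)) (hne _ (by rw [h1, hB]; exact hs)) h1.symm (by rw [hΦ.q, hΦ.q])
  exact ⟨g, hg, hgl, by rw [hgx]; exact X.smul_mem c hx⟩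

/-- an isotropic vector can be multiplied by a scalar -/
theorem pair_scale (hΦ : IsHerm r Φ) {X Y : Submodule F V} (hXn : Φ.NdOn X) (hYn : Φ.NdOn Y) (hor : Φ.Orth X Y)
    {x y : V} (hx : x ∈ X) (hy : y ∈ Y) (hx0 : x ≠ 0) (hs : Φ.B x x + Φ.B y y = 0) {c : F} (hc : c ≠ 0) :
    ∃ g ∈ Φ.Iso, Loc Φ (X ⊔ Y) g ∧ g (x + y) = c • x + c • y := by
  have hW := ndOn_sup hXn hYn hor
  have hxy := hor x hx y hy
  have hyx := Φ.refl _ _ hxy
  have hB : Φ.B (x + y) (x + y) = 0 := by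
    rw [Φ.add_left, Φ.add_right, Φ.add_right, hxy, hyx, add_zero, zero_add, hs]
  have h1 : Φ.B (c • (x + y)) (c • (x + y)) = 0 := by
    rw [B_smul_self hΦ, hB, mul_zero]
  have hcl : Cl Φ := Or.inr (Or.inl ⟨r, hΦ⟩)
  have hne : x + y ≠ 0 := by
    intro h
    apply hx0
    refine hXn x hx fun z hz => ?_
    have h2 : x = -y := eq_neg_of_add_eq_zero_left h
    rw [h2, Cfsg.Agent.H900.Gen.B_neg_left, Φ.refl _ _ (hor z hz y hy), neg_zero]
  obtain ⟨g, hg, hgl, hgx⟩ := hcl.witt_on hW (Submodule.add_mem_sup hx hy)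
    (Submodule.smul_mem _ c (Submodule.add_mem_sup hx hy)) hne (smul_ne_zero hc hne) (by rw [hB, h1]) (by rw [hΦ.q, hΦ.q])
  exact ⟨g, hg, hgl, by rw [hgx, smul_add]⟩

variable {S : Set (Submodule F V)} {N : Subgroup (V ≃ₗ[F] V)}

/-- three components can be reduced to two -/
theorem mg3 (hΦ : IsHerm r Φ) (hr : r ≠ 2) {X Y Z : Submodule F V} (hXn : Φ.NdOn X) (hYn : Φ.NdOn Y) (hZn : Φ.NdOn Z)
    (hXl : ∀ x₀ ∈ X, x₀ ≠ 0 → ∀ x ∈ X, ∃ c : F, x = c • x₀) (hYl : ∀ x₀ ∈ Y, x₀ ≠ 0 → ∀ x ∈ Y, ∃ c : F, x = c • x₀)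
    (hXY : Φ.Orth X Y) (hXZ : Φ.Orth X Z) (hYZ : Φ.Orth Y Z) (h2 : Has1 Φ N (X ⊔ Z)) (h3 : Has1 Φ N (Y ⊔ Z))
    {x y z : V} (hx : x ∈ X) (hy : y ∈ Y) (hz : z ∈ Z) (hx0 : x ≠ 0) (hy0 : y ≠ 0) :
    ∃ n ∈ N, (∀ w, Prp Φ X w → Prp Φ Y w → Prp Φ Z w → n w = w) ∧ ∃ x' ∈ X, ∃ y' ∈ Y, n (x + y + z) = x' + y' := by
  have hβx := B_line_ne hXn hXl hx hx0
  have hβy := B_line_ne hYn hYl hy hy0
  have psup : ∀ {P Q : Submodule F V} {w : V}, Prp Φ P w → Prp Φ Q w → Prp Φ (P ⊔ Q) w := by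
    intro P Q w hP hQ u hu
    obtain ⟨a, ha, b, hb, rfl⟩ := Submodule.mem_sup.1 hu
    rw [Φ.add_right, hP a ha, hQ b hb, add_zero]
  have pX : Prp Φ (Y ⊔ Z) x := psup (fun w hw => hXY x hx w hw) (fun w hw => hXZ x hx w hw)
  have pY : Prp Φ (X ⊔ Z) y := psup (fun w hw => Φ.refl _ _ (hXY w hw y hy)) (fun w hw => hYZ y hy w hw)
  -- a vector of the plane `Y ⊔ Z`
  have step : ∀ y₁ ∈ Y, ∀ z₁ ∈ Z, Φ.B y₁ y₁ ≠ 0 → Φ.B y₁ y₁ + Φ.B z₁ z₁ ≠ 0 → ∃ g ∈ N, Loc Φ (Y ⊔ Z) g ∧ g (y₁ + z₁) ∈ Y := by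
    intro y₁ hy₁ z₁ hz₁ h1 h2'
    obtain ⟨g, hg, hgl, hgy⟩ := pair_move hΦ hYn hZn hYZ hy₁ hz₁ h1 h2'
    exact ⟨g, h3 g hg hgl, hgl, hgy⟩
  by_cases hc1 : Φ.B y y + Φ.B z z = 0
  · by_cases hc2 : Φ.B x x + Φ.B z z = 0
    · obtain ⟨c, hc0, hcn⟩ := exists_gamma hΦ.card hr
      have hc : c ≠ 0 := fun h => hc0 (by rw [h, zero_mul])
      obtain ⟨g, hg, hgl, hgx⟩ := pair_scale hΦ hXn hZn hXZ hx hz hx0 hc2 hc
      have hgN := h2 g hg hgl
      have hgy : g y = y := hgl y pY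
      obtain ⟨m, hm, hml, hmy⟩ := step y hy (c • z) (Z.smul_mem c hz) hβy (by
        rw [B_smul_self hΦ]
        intro h
        have e1 : (c * c ^ r - 1) * Φ.B z z = 0 := by linear_combination h - hc1
        rcases mul_eq_zero.1 e1 with e2 | e2
        · exact hcn (sub_eq_zero.1 e2)
        · rw [e2, add_zero] at hc1
          exact hβy hc1)
      have hmx : m (c • x) = c • x := by rw [map_smul, hml x pX]
      refine ⟨m * g, N.mul_mem hm hgN, ?_, c • x, X.smul_mem c hx, m (y + c • z), hmy, ?_⟩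
      · intro w hwX hwY hwZ
        rw [LinearEquiv.mul_apply, hgl w (psup hwX hwZ), hml w (psup hwY hwZ)]
      · have e1 : x + y + z = (x + z) + y := by abel
        rw [LinearEquiv.mul_apply, e1, map_add, hgx, hgy]
        have e2 : c • x + c • z + y = c • x + (y + c • z) := by abel
        rw [e2, map_add, hmx]
    · obtain ⟨g, hg, hgl, hgx⟩ := pair_move hΦ hXn hZn hXZ hx hz hβx hc2
      refine ⟨g, h2 g hg hgl, ?_, g (x + z), hgx, y, hy, ?_⟩
      · intro w hwX _ hwZ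
        exact hgl w (psup hwX hwZ)
      · have e1 : x + y + z = (x + z) + y := by abel
        rw [e1, map_add, hgl y pY]
  · obtain ⟨g, hg, hgl, hgy⟩ := step y hy z hz hβy hc1
    refine ⟨g, hg, ?_, x, hx, g (y + z), hgy, ?_⟩
    · intro w _ hwY hwZ
      exact hgl w (psup hwY hwZ)
    · rw [add_assoc, map_add, hgl x pX]

theorem split_orbit_aux [Finite S] (hΦ : IsHerm r Φ) (hr : r ≠ 2) (hd : ODec Φ ⊥ (fun X : S => (X : Submodule F V)))
    (hline : ∀ X ∈ S, ∀ x₀ ∈ X, x₀ ≠ 0 → ∀ x ∈ X, ∃ c : F, x = c • x₀) (h2S : ∃ X Y : S, X ≠ Y)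
    (hN : ∀ X Y : S, X ≠ Y → Has1 Φ N ((X : Submodule F V) ⊔ Y)) :
    ∀ (k : ℕ) (s : Finset S) (x : S → V), s.card ≤ k → (∀ i ∈ s, x i ∈ (i : Submodule F V)) →
      ∃ n ∈ N, ∃ i j : S, i ≠ j ∧ n (∑ l ∈ s, x l) ∈ (i : Submodule F V) ⊔ j := by
  classical
  intro k
  induction k with
  | zero =>
    intro s x hs hx
    have h1 : s = ∅ := Finset.card_eq_zero.1 (by omega)
    subst h1
    obtain ⟨X, Y, hXY⟩ := h2S
    refine ⟨1, N.one_mem, X, Y, hXY, ?_⟩
    rw [Finset.sum_empty, map_zero]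
    exact Submodule.zero_mem _
  | succ k ih =>
    intro s x hs hx
    by_cases hk : s.card ≤ k
    · exact ih s x hk hx
    by_cases h1 : s.card ≤ 2
    · -- at most two summands
      obtain ⟨X, Y, hXY⟩ := h2S
      rcases Nat.lt_or_ge s.card 2 with h2 | h2
      · rcases Nat.le_one_iff_eq_zero_or_eq_one.1 (Nat.lt_succ_iff.1 h2) with h3 | h3
        · have h4 : s = ∅ := Finset.card_eq_zero.1 h3
          subst h4
          refine ⟨1, N.one_mem, X, Y, hXY, ?_⟩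
          rw [Finset.sum_empty, map_zero]
          exact Submodule.zero_mem _
        · obtain ⟨i, rfl⟩ := Finset.card_eq_one.1 h3
          obtain ⟨j, hj⟩ : ∃ j, i ≠ j := by
            by_cases h : i = X
            · exact ⟨Y, h ▸ hXY⟩
            · exact ⟨X, h⟩
          refine ⟨1, N.one_mem, i, j, hj, ?_⟩
          rw [Finset.sum_singleton]
          exact Submodule.mem_sup_left (hx i (Finset.mem_singleton_self i))
      · obtain ⟨i, j, hij, rfl⟩ := Finset.card_eq_two.1 (le_antisymm h1 h2)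
        refine ⟨1, N.one_mem, i, j, hij, ?_⟩
        rw [Finset.sum_pair hij]
        exact Submodule.add_mem_sup (hx i (Finset.mem_insert_self _ _))
          (hx j (Finset.mem_insert_of_mem (Finset.mem_singleton_self j)))
    · push Not at h1 hk
      obtain ⟨i, j, l, hi, hj, hl, hij, hil, hjl⟩ := Finset.two_lt_card_iff.1 h1
      have drop : ∀ a ∈ s, x a = 0 → ∃ n ∈ N, ∃ i j : S, i ≠ j ∧ n (∑ l ∈ s, x l) ∈ (i : Submodule F V) ⊔ j := by
        intro a ha hxa
        obtain ⟨n, hn, c, d, hcd, hc⟩ := ih (s.erase a) x (by rw [Finset.card_erase_of_mem ha]; omega)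
          (fun b hb => hx b (Finset.mem_of_mem_erase hb))
        refine ⟨n, hn, c, d, hcd, ?_⟩
        rwa [Finset.sum_erase s hxa] at hc
      by_cases hxi : x i = 0
      · exact drop i hi hxi
      by_cases hxj : x j = 0
      · exact drop j hj hxj
      obtain ⟨n, hn, hnl, x', hx', y', hy', hnx⟩ := mg3 (N := N) hΦ hr (hd.nd i) (hd.nd j) (hd.nd l)
        (hline i i.2) (hline j j.2) (hd.orth i j hij) (hd.orth i l hil) (hd.orth j l hjl) (hN i l hil) (hN j l hjl)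
        (hx i hi) (hx j hj) (hx l hl) hxi hxj
      let y : S → V := fun c => if c = i then x' else if c = j then y' else x c
      obtain ⟨m, hm, c, d, hcd, hc⟩ := ih (s.erase l) y (by rw [Finset.card_erase_of_mem hl]; omega) (by
        intro b hb
        by_cases hbi : b = i
        · subst hbi
          simp only [y, if_true]
          exact hx'
        · by_cases hbj : b = j
          · subst hbj
            simp only [y, if_neg hbi, if_true]
            exact hy'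
          · simp only [y, if_neg hbi, if_neg hbj]
            exact hx b (Finset.mem_of_mem_erase hb))
      refine ⟨m * n, N.mul_mem hm hn, c, d, hcd, ?_⟩
      have hj' : j ∈ s.erase l := Finset.mem_erase.2 ⟨hjl, hj⟩
      have hi' : i ∈ (s.erase l).erase j := Finset.mem_erase.2 ⟨hij, Finset.mem_erase.2 ⟨hil, hi⟩⟩
      have e1 : ∑ b ∈ s, x b = x l + (x j + (x i + ∑ b ∈ ((s.erase l).erase j).erase i, x b)) := by
        rw [← Finset.add_sum_erase s x hl, ← Finset.add_sum_erase (s.erase l) x hj',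
          ← Finset.add_sum_erase ((s.erase l).erase j) x hi']
      have e2 : ∑ b ∈ s.erase l, y b = y' + (x' + ∑ b ∈ ((s.erase l).erase j).erase i, x b) := by
        rw [← Finset.add_sum_erase (s.erase l) y hj', ← Finset.add_sum_erase ((s.erase l).erase j) y hi']
        congr 1
        · simp only [y, if_neg (Ne.symm hij), if_true]
        · congr 1
          · simp only [y, if_true]
          · refine Finset.sum_congr rfl fun b hb => ?_
            simp only [y, if_neg (Finset.ne_of_mem_erase hb), if_neg (Finset.ne_of_mem_erase (Finset.mem_of_mem_erase hb))]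
      have e3 : n (∑ b ∈ ((s.erase l).erase j).erase i, x b) = ∑ b ∈ ((s.erase l).erase j).erase i, x b := by
        rw [map_sum]
        refine Finset.sum_congr rfl fun b hb => ?_
        have hbi : b ≠ i := Finset.ne_of_mem_erase hb
        have hbj : b ≠ j := Finset.ne_of_mem_erase (Finset.mem_of_mem_erase hb)
        have hbl : b ≠ l := Finset.ne_of_mem_erase (Finset.mem_of_mem_erase (Finset.mem_of_mem_erase hb))
        have hbx := hx b (Finset.mem_of_mem_erase (Finset.mem_of_mem_erase (Finset.mem_of_mem_erase hb)))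
        exact hnl _ (fun w hw => hd.orth b i hbi _ hbx w hw) (fun w hw => hd.orth b j hbj _ hbx w hw)
          (fun w hw => hd.orth b l hbl _ hbx w hw)
      have e5 : n (∑ b ∈ s, x b) = ∑ b ∈ s.erase l, y b := by
        have e6 : x l + (x j + (x i + ∑ b ∈ ((s.erase l).erase j).erase i, x b)) =
            (x i + x j + x l) + ∑ b ∈ ((s.erase l).erase j).erase i, x b := by abel
        rw [e1, e2, e6, map_add, e3, hnx]
        abel
      rw [LinearEquiv.mul_apply, e5]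
      exact hc

/-- `N` contains every isometry fixing a hyperplane `v^⟂` pointwise -/
theorem split_R [Finite S] (hΦ : IsHerm r Φ) (hr : r ≠ 2) (hd : ODec Φ ⊥ (fun X : S => (X : Submodule F V)))
    (hline : ∀ X ∈ S, ∀ x₀ ∈ X, x₀ ≠ 0 → ∀ x ∈ X, ∃ c : F, x = c • x₀) (h2S : ∃ X Y : S, X ≠ Y) (hN0 : N ≤ Φ.Iso)
    (hN : ∀ X Y : S, X ≠ Y → Has1 Φ N ((X : Submodule F V) ⊔ Y)) {v : V} {g : V ≃ₗ[F] V} (h : Rv Φ v g) : g ∈ N := by
  classical
  have := Fintype.ofFinite S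
  have h1 : v ∈ (⊥ : Submodule F V) ⊔ ⨆ i : S, (i : Submodule F V) := by
    rw [hd.span]
    trivial
  rw [bot_sup_eq] at h1
  have h2 : v ∈ ⨆ i ∈ (Finset.univ : Finset S), (i : Submodule F V) := by simpa using h1
  obtain ⟨x, hx⟩ := (Submodule.mem_iSup_finset_iff_exists_sum _ _).1 h2
  obtain ⟨n, hn, i, j, hij, hij'⟩ := split_orbit_aux hΦ hr hd hline h2S hN _ Finset.univ (fun i => (x i : V)) le_rfl
    (fun i _ => (x i).2)
  rw [hx] at hij'
  exact h.of_conj (hN0 hn) hn hij' (hN i j hij)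

end Cfsg.Agent.H522.Gen.U
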